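import Cfsg.Agent.PGLThree.Double.Rich

/-!
# The centraliser of a rich flag

If all flags have two transvections, three transvections `(v, a)`, `(v, b)`, `(w, a)` of a rich flag
may be normalised with `b · w = 1`. An element commuting with the first is then, up to scalars, in
the group of order eight which they generate.
-/

set_option autoImplicit false
set_option linter.unusedSectionVars false

namespace CfsgLib.PGLThree

open Matrix Cfsg.Geo CfsgLib.MaxSub CfsgLib.SLThree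
open CfsgLib.Aschbacher (mat)

variable {F : Type*} [Field F] {P : Subgroup (GL (Fin 3) F)} {v w a b : Fin 3 → F}

theorem Uniform.eq_zero_or (hu : Uniform P 2) {x d : Fin 3 → F} (h : Flag P x d) {s r : F}
    (hs : s ∈ scal P x d h.dot) (hs0 : s ≠ 0) (hr : r ∈ scal P x d h.dot) : r = 0 ∨ r = s := by
  obtain ⟨y, -, huniq⟩ := (Nat.card_eq_two_iff' (0 : scal P x d h.dot)).1 (hu.card _ _ h)
  refine or_iff_not_imp_left.2 fun hr0 => ?_
  have e1 := huniq ⟨r, hr⟩ fun e => hr0 (congrArg Subtype.val e)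
  have e2 := huniq ⟨s, hs⟩ fun e => hs0 (congrArg Subtype.val e)
  exact congrArg Subtype.val (e1.trans e2.symm)

/-- Three normalised transvections of a rich flag. -/
structure Star (P : Subgroup (GL (Fin 3) F)) (v w a b : Fin 3 → F) : Prop where
  av : a ⬝ᵥ v = 0
  aw : a ⬝ᵥ w = 0
  bv : b ⬝ᵥ v = 0
  bw : b ⬝ᵥ w = 1
  a_ne : a ≠ 0
  v_ne : v ≠ 0
  mem : tv v a ∈ P
  mem₁ : tv v b ∈ P
  mem₂ : tv w a ∈ P

theorem exists_star (hu : Uniform P 2) (hr : Rich P) : ∃ v w a b, Star P v w a b := by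
  obtain ⟨v, a, w, b, hva, hwa, hvw, hvb, hab⟩ := hr
  obtain ⟨k₁, hk₁, hk₁0⟩ := hva.scal_ne_bot
  obtain ⟨k₂, hk₂, hk₂0⟩ := hwa.scal_ne_bot
  obtain ⟨k₃, hk₃, hk₃0⟩ := hvb.scal_ne_bot
  have hav : a ⬝ᵥ (k₁ • v) = 0 := by simp [dotProduct_smul, hva.dot]
  have haw : a ⬝ᵥ (k₂ • w) = 0 := by simp [dotProduct_smul, hwa.dot]
  have hbv : ((k₃ / k₁) • b) ⬝ᵥ (k₁ • v) = 0 := by simp [smul_dotProduct, dotProduct_smul, hvb.dot]
  have hm₁ : tv (k₁ • v) ((k₃ / k₁) • b) ∈ P := by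
    rwa [tv_smul_right, smul_smul, div_mul_cancel₀ _ hk₁0]
  refine ⟨k₁ • v, k₂ • w, a, (k₃ / k₁) • b, hav, haw, hbv, ?_, hva.axis_ne,
    smul_ne_zero hk₁0 hva.centre_ne, hk₁, hm₁, hk₂⟩
  have hfl : Flag P (k₁ • v) a := hva.smul_centre hk₁0
  have h := tv_rule_axis (v := k₂ • w) (a := a) (w := k₁ • v) (b := (k₃ / k₁) • b) haw hbv hav hk₂ hm₁
  rw [tv_smul_right] at h
  refine (hu.eq_zero_or hfl (s := 1) (by rw [mem_scal, one_smul]; exact hk₁) one_ne_zero h).resolve_left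
    fun h0 => ?_
  have hbw : b ⬝ᵥ w = 0 := by
    simpa [smul_dotProduct, dotProduct_smul, hk₁0, hk₂0, hk₃0] using h0
  obtain ⟨c, hc⟩ := exists_smul_of_dot hab hva.centre_ne hva.dot hvb.dot hwa.dot hbw
  have := (hvw c (-1) (by rw [hc]; simp)).2
  simp at this

/-- The four centres on the axis. -/
theorem Star.centre_cases (hu : Uniform P 2) (h : Star P v w a b) (hab : Indep a b) {u : Fin 3 → F}
    (hau : a ⬝ᵥ u = 0) (hm : tv u a ∈ P) (hb : b ⬝ᵥ u ≠ 0) : u = w ∨ u = v + w := by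
  have hfl : Flag P v a := flag_of_tv h.av h.v_ne h.a_ne h.mem
  have h1 : (1 : F) ∈ scal P v a hfl.dot := by rw [mem_scal, one_smul]; exact h.mem
  have hbu := scal_rule hau h.av h.bv hm (show (1 : F) ∈ scal P v b h.bv by
    rw [mem_scal, one_smul]; exact h.mem₁)
  rw [one_mul] at hbu
  have hbu1 := (hu.eq_zero_or hfl h1 one_ne_zero hbu).resolve_left hb
  have hwm : w ∈ axisGroup P a := ⟨h.aw, h.mem₂⟩
  have hum : u ∈ axisGroup P a := ⟨hau, hm⟩
  have hd := (axisGroup P a).sub_mem hum hwm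
  obtain ⟨c, hc⟩ := exists_smul_of_dot hab h.v_ne h.av h.bv hd.1
    (by rw [dotProduct_sub, hbu1, h.bw, sub_self])
  have hcm : c ∈ scal P v a hfl.dot := by rw [mem_scal, hc]; exact hd.2
  rcases hu.eq_zero_or hfl h1 one_ne_zero hcm with rfl | rfl
  · left; rw [← sub_eq_zero, ← hc, zero_smul]
  · right; rw [eq_add_of_sub_eq hc.symm, one_smul]

/-- The four axes at the centre. -/
theorem Star.axis_cases (hu : Uniform P 2) (h : Star P v w a b) (hvw : Indep v w) {x : Fin 3 → F}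
    (hxv : x ⬝ᵥ v = 0) (hm : tv v x ∈ P) (hxw : x ⬝ᵥ w ≠ 0) : x = b ∨ x = a + b := by
  have hfl : Flag P v a := flag_of_tv h.av h.v_ne h.a_ne h.mem
  have h1 : (1 : F) ∈ scal P v a hfl.dot := by rw [mem_scal, one_smul]; exact h.mem
  have hr := tv_rule_centre (v := v) (a := x) (w := w) (b := a) hxv h.aw h.av hm h.mem₂
  have hx1 := (hu.eq_zero_or hfl h1 one_ne_zero hr).resolve_left hxw
  have hnb : tv v (-b) ∈ P := by
    rw [tv_neg_right, ← tv_inv]; exact inv_mem h.mem₁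
  have hd := tv_mem_add_right hxv (by rw [neg_dotProduct, h.bv, neg_zero]) hm hnb
  obtain ⟨c, hc⟩ := exists_smul_of_dot (w := x + -b) hvw h.a_ne
    (by rw [dotProduct_comm]; exact h.av) (by rw [dotProduct_comm]; exact h.aw)
    (by rw [dotProduct_comm, add_dotProduct, neg_dotProduct, hxv, h.bv, neg_zero, add_zero])
    (by rw [dotProduct_comm, add_dotProduct, neg_dotProduct, hx1, h.bw, add_neg_cancel])
  have hcm : c ∈ scal P v a hfl.dot := by rw [mem_scal, ← tv_smul_right, hc]; exact hd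
  rcases hu.eq_zero_or hfl h1 one_ne_zero hcm with rfl | rfl
  · left; rw [← sub_eq_zero, sub_eq_add_neg, ← hc, zero_smul]
  · right; rw [one_smul] at hc; rw [hc]; abel

theorem Star.indep (h : Star P v w a b) : Indep v w ∧ Indep a b :=
  ⟨indep_of_dot (a := v) (b := w) (x := b) (by rw [dotProduct_comm]; exact h.bv)
    (by rw [dotProduct_comm, h.bw]; exact one_ne_zero) h.v_ne,
   indep_of_dot h.aw (by rw [h.bw]; exact one_ne_zero) h.a_ne⟩

variable [CharP F 2]

/-- An element fixing the three transvections up to scalars. -/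
theorem Star.scalar_or (hu : Uniform P 2) (hdet : ∀ g ∈ P, (mat g).det = 1) (h : Star P v w a b)
    {g : GL (Fin 3) F} (hg : g ∈ P) {l : F} (hl : l ≠ 0) (hgv : mat g *ᵥ v = l • v)
    (hgw : mat g *ᵥ w = l • w) (hga : a ᵥ* mat g = l • a) (hgb : b ᵥ* mat g = l • b) :
    ∃ c : F, mat g = c • 1 ∨ mat g = c • mat (tv v a) := by
  obtain ⟨hvw, hab⟩ := h.indep
  obtain ⟨x₀, hx₀⟩ := exists_dot_eq_one h.a_ne
  rw [dotProduct_comm] at hx₀
  set u := mat g *ᵥ x₀ - l • x₀ with hudef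
  have hau : a ⬝ᵥ u = 0 := by
    rw [hudef, dotProduct_sub, dotProduct_mulVec, hga, smul_dotProduct, dotProduct_smul, sub_self]
  have hbu : b ⬝ᵥ u = 0 := by
    rw [hudef, dotProduct_sub, dotProduct_mulVec, hgb, smul_dotProduct, dotProduct_smul, sub_self]
  obtain ⟨c, hc⟩ := exists_smul_of_dot hab h.v_ne h.av h.bv hau hbu
  have hd : a ⬝ᵥ ((c / l) • v) = 0 := by simp [dotProduct_smul, h.av]
  have hgt : mat g = l • mat (tv ((c / l) • v) a) := by
    refine ext_iff_mulVec.2 fun x => ?_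
    obtain ⟨s, r, hsr⟩ := exists_combination (x := x - (a ⬝ᵥ x) • x₀) hvw h.a_ne
      (by rw [dotProduct_comm]; exact h.av) (by rw [dotProduct_comm]; exact h.aw)
      (by rw [dotProduct_comm, dotProduct_sub, dotProduct_smul, hx₀, smul_eq_mul, mul_one, sub_self])
    have hx : x = s • v + r • w + (a ⬝ᵥ x) • x₀ := by rw [hsr, sub_add_cancel]
    rw [smul_mulVec]
    show _ = l • ((tv ((c / l) • v) a : Matrix (Fin 3) (Fin 3) F) *ᵥ x)
    rw [tv_mulVec hd]
    conv_lhs => rw [hx, mulVec_add, mulVec_add, mulVec_smul, mulVec_smul, mulVec_smul, hgv, hgw,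
      show mat g *ᵥ x₀ = c • v + l • x₀ by rw [hc, hudef, sub_add_cancel]]
    conv_rhs => rw [smul_add, smul_smul, smul_smul]
    rw [show l * (a ⬝ᵥ x) * (c / l) = (a ⬝ᵥ x) * c by field_simp]
    conv_rhs => arg 1; rw [hx]
    module
  have hl3 : l ^ 3 = 1 := by
    have hd1 : (mat (tv ((c / l) • v) a)).det = 1 :=
      CfsgLib.Aschbacher.mem_specialLinear_iff.1 (tv_mem_specialLinear _ _)
    have := hdet g hg
    rwa [hgt, det_smul, hd1, mul_one, Fintype.card_fin] at this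
  have hcube : g ^ 3 = tv ((c / l) • v) a := by
    apply Units.ext
    rw [Units.val_pow_eq_pow_val]
    show mat g ^ 3 = _
    rw [hgt, smul_pow, hl3, one_smul]
    have hpow : (tv ((c / l) • v) a) ^ 3 = tv ((c / l) • v) a := by
      rw [pow_succ, pow_two, tv_mul_left hd hd, tv_mul_left (by simp [dotProduct_add, hd]) hd]
      congr 1
      rw [← add_smul, ← add_smul, CharTwo.add_self_eq_zero, zero_add]
    rw [mat, ← Units.val_pow_eq_pow_val, hpow]
  have hfl : Flag P v a := flag_of_tv h.av h.v_ne h.a_ne h.mem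
  rcases hu.eq_zero_or hfl (s := 1) (by rw [mem_scal, one_smul]; exact h.mem) one_ne_zero
    (r := c / l) (show tv ((c / l) • v) a ∈ P from hcube ▸ pow_mem hg 3) with e | e
  · exact ⟨l, Or.inl (by rw [hgt, e, zero_smul, tv_zero_left]; simp [mat])⟩
  · exact ⟨l, Or.inr (by rw [hgt, e, one_smul])⟩

/-- **The centraliser of the flag modulo scalars.** -/
theorem Star.centraliser (hu : Uniform P 2) (hdet : ∀ g ∈ P, (mat g).det = 1)
    (h : Star P v w a b) {g : GL (Fin 3) F} (hg : g ∈ P) (hcomm : g * tv v a = tv v a * g) :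
    ∃ e d : Bool, ∃ c : F,
      let k := (if e then tv v b else 1) * (if d then tv w a else 1)
      mat (k * g) = c • 1 ∨ mat (k * g) = c • mat (tv v a) := by
  obtain ⟨hvw, hab⟩ := h.indep
  set v' := mat g *ᵥ v
  set a' := a ᵥ* mat g⁻¹
  have hd' : a' ⬝ᵥ v' = 0 := by simp only [a', v', mat]; rw [dot_conj, h.av]
  have hvec : vecMulVec v' a' = vecMulVec v a := by
    have e := conj_tv g v a
    rw [hcomm, mul_inv_cancel_right] at e
    have e' := congrArg (fun m : GL (Fin 3) F => (m : Matrix (Fin 3) (Fin 3) F)) e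
    simp only [tv_coe h.av] at e'
    rw [tv_coe hd'] at e'
    exact (add_left_cancel e').symm
  obtain ⟨x₀, hx₀⟩ := exists_dot_eq_one h.a_ne
  rw [dotProduct_comm] at hx₀
  have hv' : (a' ⬝ᵥ x₀) • v' = v := by
    rw [← vecMulVec_mulVec', hvec, vecMulVec_mulVec', hx₀, one_smul]
  have hμ : a' ⬝ᵥ x₀ ≠ 0 := fun e => h.v_ne (by rw [← hv', e, zero_smul])
  obtain ⟨l, hl, hgv, hga'⟩ : ∃ l : F, l ≠ 0 ∧ v' = l • v ∧ a' = l⁻¹ • a := by
    refine ⟨(a' ⬝ᵥ x₀)⁻¹, inv_ne_zero hμ, ?_, ?_⟩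
    · rw [← hv', inv_smul_smul₀ hμ]
    · obtain ⟨i, hi⟩ := Function.ne_iff.1 h.v_ne
      ext j
      have e := congrFun₂ hvec i j
      have hvi := congrFun hv' i
      simp only [vecMulVec_apply, Pi.smul_apply, smul_eq_mul, inv_inv] at e hvi ⊢
      rw [← hvi] at e hi
      have hv'i : v' i ≠ 0 := fun z => hi (by rw [z, mul_zero]; rfl)
      apply mul_left_cancel₀ hv'i
      linear_combination e
  have cancel : ∀ x : Fin 3 → F, x ᵥ* mat g⁻¹ ᵥ* mat g = x := fun x => by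
    rw [vecMul_vecMul, CfsgLib.Aschbacher.mat_inv_mul, vecMul_one]
  have hga : a ᵥ* mat g = l • a := by
    have e := congrArg (· ᵥ* mat g) hga'
    simp only [a', cancel, smul_vecMul] at e
    conv_rhs => rw [e, smul_inv_smul₀ hl]
  set w' := l⁻¹ • (mat g *ᵥ w)
  set b' := l • (b ᵥ* mat g⁻¹)
  have hgw : mat g *ᵥ w = l • w' := (smul_inv_smul₀ hl _).symm
  have hbw' : b' ⬝ᵥ w' = 1 := by
    simp only [b', w', smul_dotProduct, dotProduct_smul, smul_eq_mul, mat]
    rw [dot_conj, h.bw]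
    field_simp
  have hw'c : w' = w ∨ w' = v + w := by
    have hm := tv_mem_conj hg h.mem₂
    rw [show a ᵥ* ((g⁻¹ : GL (Fin 3) F) : Matrix (Fin 3) (Fin 3) F) = l⁻¹ • a from hga',
      tv_smul_right] at hm
    have haw' : a ⬝ᵥ w' = 0 := by
      simp only [w', dotProduct_smul, dotProduct_mulVec, hga, smul_dotProduct, h.aw, smul_zero]
    refine h.centre_cases hu hab haw' hm fun e => ?_
    have hbv' : b' ⬝ᵥ v = 0 := by
      have : (b ᵥ* mat g⁻¹) ⬝ᵥ v' = 0 := by simp only [v', mat]; rw [dot_conj, h.bv]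
      rw [hgv, dotProduct_smul, smul_eq_mul] at this
      simp only [b', smul_dotProduct, smul_eq_mul]
      exact this
    obtain ⟨c, hc⟩ := exists_smul_of_dot hab h.v_ne h.av h.bv haw' e
    rw [← hc, dotProduct_smul, hbv', smul_zero] at hbw'
    exact zero_ne_one hbw'
  have hb'c : b' = b ∨ b' = a + b := by
    have hm := tv_mem_conj hg h.mem₁
    rw [show (g : Matrix (Fin 3) (Fin 3) F) *ᵥ v = l • v from hgv, ← tv_smul_right] at hm
    have hbv' : b' ⬝ᵥ v = 0 := by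
      have : (b ᵥ* mat g⁻¹) ⬝ᵥ v' = 0 := by simp only [v', mat]; rw [dot_conj, h.bv]
      rw [hgv, dotProduct_smul, smul_eq_mul] at this
      simp only [b', smul_dotProduct, smul_eq_mul]
      exact this
    refine h.axis_cases hu hvw hbv' hm ?_
    rcases hw'c with e | e <;> rw [e] at hbw'
    · rw [hbw']; exact one_ne_zero
    · rw [dotProduct_add, hbv', zero_add] at hbw'; rw [hbw']; exact one_ne_zero
  have hs₁v : mat (tv v b) *ᵥ v = v := by rw [mat, tv_mulVec h.bv, h.bv, zero_smul, add_zero]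
  have hs₁w : mat (tv v b) *ᵥ (v + w) = w := by
    rw [mat, tv_mulVec h.bv, dotProduct_add, h.bv, h.bw, zero_add, one_smul, add_assoc,
      add_comm w v, ← add_assoc, ← two_smul F v, CharTwo.two_eq_zero, zero_smul, zero_add]
  have hs₁a : a ᵥ* mat (tv v b) = a := by rw [mat, vecMul_tv h.bv, h.av, zero_smul, add_zero]
  have hs₁b : b ᵥ* mat (tv v b) = b := by rw [mat, vecMul_tv h.bv, h.bv, zero_smul, add_zero]
  have hs₂v : mat (tv w a) *ᵥ v = v := by rw [mat, tv_mulVec h.aw, h.av, zero_smul, add_zero]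
  have hs₂w : mat (tv w a) *ᵥ w = w := by rw [mat, tv_mulVec h.aw, h.aw, zero_smul, add_zero]
  have hs₂vw : mat (tv w a) *ᵥ (v + w) = v + w := by rw [mulVec_add, hs₂v, hs₂w]
  have hs₂a : a ᵥ* mat (tv w a) = a := by rw [mat, vecMul_tv h.aw, h.aw, zero_smul, add_zero]
  have hs₂b : b ᵥ* mat (tv w a) = a + b := by
    rw [mat, vecMul_tv h.aw, h.bw, one_smul, add_comm]
  have hgb : b' ᵥ* mat g = l • b := by simp only [b', smul_vecMul, cancel]
  have hgb₀ : ∀ x, b' = x → x ᵥ* mat g = l • b := fun x e => e ▸ hgb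
  have hm : ∀ x y : GL (Fin 3) F, mat (x * y) = mat x * mat y := fun x y => rfl
  have hone : mat (1 : GL (Fin 3) F) = 1 := rfl
  -- the two corrections
  obtain ⟨e, hev, hew, hea, heb⟩ : ∃ e : Bool,
      mat (if e then tv v b else 1) *ᵥ v = v ∧ mat (if e then tv v b else 1) *ᵥ w' = w ∧
      a ᵥ* mat (if e then tv v b else 1) = a ∧ b ᵥ* mat (if e then tv v b else 1) = b := by
    rcases hw'c with hw' | hw'
    · exact ⟨false, by simp [hone, hw']⟩
    · exact ⟨true, hs₁v, by rw [hw']; exact hs₁w, hs₁a, hs₁b⟩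
  obtain ⟨d, hdv, hdw, hda, hdb⟩ : ∃ d : Bool,
      mat (if d then tv w a else 1) *ᵥ v = v ∧ mat (if d then tv w a else 1) *ᵥ w' = w' ∧
      a ᵥ* mat (if d then tv w a else 1) = a ∧ b ᵥ* mat (if d then tv w a else 1) = b' := by
    rcases hb'c with hb' | hb'
    · exact ⟨false, by simp [hone, hb']⟩
    · refine ⟨true, hs₂v, ?_, hs₂a, by rw [hb']; exact hs₂b⟩
      rcases hw'c with hw' | hw' <;> rw [hw']
      exacts [hs₂w, hs₂vw]
  refine ⟨e, d, ?_⟩
  simp only
  have hk : (if e then tv v b else 1) * (if d then tv w a else 1) ∈ P := by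
    refine mul_mem ?_ ?_ <;> split_ifs
    exacts [h.mem₁, one_mem _, h.mem₂, one_mem _]
  refine h.scalar_or hu hdet (mul_mem hk hg) hl ?_ ?_ ?_ ?_
  · simp only [hm, ← mulVec_mulVec]
    rw [show mat g *ᵥ v = l • v from hgv, mulVec_smul, mulVec_smul, hdv, hev]
  · simp only [hm, ← mulVec_mulVec]
    rw [hgw, mulVec_smul, mulVec_smul, hdw, hew]
  · simp only [hm, ← vecMul_vecMul]
    rw [hea, hda, hga]
  · simp only [hm, ← vecMul_vecMul]
    rw [heb, hdb, hgb]

end CfsgLib.PGLThree
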