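import Cfsg.Agent.PGLThree.Plane

/-!
# Translations of an axis over a point without transvections

A group of matrices `[[1, c], [0, g]]` in characteristic two with no element `[[1, c], [0, 1]]`,
`c ≠ 0`, at least three upper `g` and a lower one: the upper `g` are `w s²` and their `c` are
`(0, C s + D s²)`, for `s` in a subfield.
-/

set_option autoImplicit false
set_option linter.unusedSectionVars false

namespace CfsgLib.PGLThree

open Matrix CfsgLib.DicksonPSL2
open scoped MatrixGroups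

variable {F : Type*} [Field F]

/-- `[[1, c], [0, g]]`. -/
noncomputable def eblk (g : SL(2, F)) (c : Fin 2 → F) : GL (Fin 3) F :=
  GeneralLinearGroup.mkOfDetNeZero !![1, c 0, c 1; 0, g.1 0 0, g.1 0 1; 0, g.1 1 0, g.1 1 1] (by
    have h := g.2
    rw [det_fin_two] at h
    rw [det_fin_three]
    simp [h])

theorem blk_coe (g : SL(2, F)) (c : Fin 2 → F) :
    (eblk g c : Matrix (Fin 3) (Fin 3) F) =
      !![1, c 0, c 1; 0, g.1 0 0, g.1 0 1; 0, g.1 1 0, g.1 1 1] := rfl

theorem blk_mul (g h : SL(2, F)) (c d : Fin 2 → F) :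
    eblk g c * eblk h d = eblk (g * h) (d + c ᵥ* h.1) := by
  apply Units.ext
  rw [Units.val_mul, blk_coe, blk_coe, blk_coe]
  ext i j
  fin_cases i <;> fin_cases j <;>
    simp [Matrix.mul_apply, Fin.sum_univ_three, Matrix.vecMul, dotProduct, Fin.sum_univ_two,
      add_assoc]

theorem blk_one : eblk (1 : SL(2, F)) 0 = 1 := by
  apply Units.ext
  rw [blk_coe, Units.val_one]
  ext i j
  fin_cases i <;> fin_cases j <;> simp

/-- `diag (s, s⁻¹)`. -/
def torSL (s : F) (hs : s ≠ 0) : SL(2, F) := ⟨!![s, 0; 0, s⁻¹], by simp [det_fin_two, hs]⟩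

theorem coe_torSL (s : F) (hs : s ≠ 0) : (torSL s hs).1 = !![s, 0; 0, s⁻¹] := rfl

theorem vecMul_two (c : Fin 2 → F) (M : Matrix (Fin 2) (Fin 2) F) (j : Fin 2) :
    (c ᵥ* M) j = c 0 * M 0 j + c 1 * M 1 j := by
  simp [Matrix.vecMul, dotProduct, Fin.sum_univ_two]

variable [Fintype F] [CharP F 2]

theorem upSL_mul_loSL_mul_upSL {x : F} (hx : x ≠ 0) :
    (upSL x * loSL x⁻¹ * upSL x).1 = !![0, x; x⁻¹, 0] := by
  rw [Matrix.SpecialLinearGroup.coe_mul, Matrix.SpecialLinearGroup.coe_mul, coe_loSL, coe_upSL]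
  ext i j
  fin_cases i <;> fin_cases j <;>
    simp [Matrix.mul_apply, Fin.sum_univ_two, hx, CharTwo.add_self_eq_zero]

theorem exists_sqrt (E : Subfield F) {r : F} (hr : r ∈ E) : ∃ s ∈ E, s ^ 2 = r := by
  haveI : CharP E 2 := (RingHom.charP_iff_charP E.subtype 2).2 inferInstance
  obtain ⟨s, hs⟩ := (bijective_frobenius E 2).2 ⟨r, hr⟩
  rw [frobenius_def] at hs
  exact ⟨s, s.2, by simpa using congrArg Subtype.val hs⟩

set_option maxHeartbeats 1000000 in
/-- **Translations over a point without transvections.** -/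
theorem coord {Q : Subgroup (GL (Fin 3) F)} (noY : ∀ c, eblk 1 c ∈ Q → c = 0)
    (low : ∃ k, k ≠ 0 ∧ eblk (loSL k) 0 ∈ Q) {α₁ α₂ φ₁ φ₂ : F} (h1 : α₁ ≠ 0) (h2 : α₂ ≠ 0)
    (h12 : α₁ ≠ α₂) (hm1 : eblk (upSL α₁) ![0, φ₁] ∈ Q) (hm2 : eblk (upSL α₂) ![0, φ₂] ∈ Q) :
    ∃ (E : Subfield F) (w C D : F), w ≠ 0 ∧ 3 ≤ Nat.card E ∧
      ∀ α φ, eblk (upSL α) ![0, φ] ∈ Q ↔ ∃ s ∈ E, α = w * s ^ 2 ∧ φ = C * s + D * s ^ 2 := by
  classical
  haveI : Fact (Nat.Prime 2) := ⟨Nat.prime_two⟩
  let L : Subgroup SL(2, F) :=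
    { carrier := {g | ∃ c, eblk g c ∈ Q}
      mul_mem' := fun {g h} ⟨c, hc⟩ ⟨d, hd⟩ => ⟨_, blk_mul g h c d ▸ mul_mem hc hd⟩
      one_mem' := ⟨0, by rw [blk_one]; exact one_mem Q⟩
      inv_mem' := fun {g} ⟨c, hc⟩ => by
        have hpow : ∀ n : ℕ, ∃ d, eblk (g ^ n) d ∈ Q := fun n => by
          induction n with
          | zero => exact ⟨0, by rw [pow_zero, blk_one]; exact one_mem Q⟩
          | succ n ih =>
            obtain ⟨d, hd⟩ := ih
            exact ⟨_, pow_succ g n ▸ blk_mul _ g d c ▸ mul_mem hd hc⟩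
        have hinv : g⁻¹ = g ^ (orderOf g - 1) := inv_eq_of_mul_eq_one_right (by
          rw [← pow_succ', Nat.sub_add_cancel (orderOf_pos g), pow_orderOf_eq_one])
        rw [Set.mem_setOf_eq, hinv]
        exact hpow _ }
  -- lifts are unique
  have uniq : ∀ g c d, eblk g c ∈ Q → eblk g d ∈ Q → c = d := by
    intro g c d hc hd
    obtain ⟨e, he⟩ : g⁻¹ ∈ L := L.inv_mem ⟨c, hc⟩
    have e1 := mul_mem hc he
    have e2 := mul_mem hd he
    rw [blk_mul, mul_inv_cancel] at e1 e2
    have e3 := add_left_cancel ((noY _ e1).trans (noY _ e2).symm)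
    have := congrArg (· ᵥ* g.1) e3
    rwa [vecMul_vecMul, vecMul_vecMul, ← Matrix.SpecialLinearGroup.coe_mul, inv_mul_cancel,
      Matrix.SpecialLinearGroup.coe_one, vecMul_one, vecMul_one] at this
  -- lifts of the translations
  have upQ : ∀ α c, eblk (upSL α) c ∈ Q → c 0 = 0 := by
    intro α c hc
    have hsq := mul_mem hc hc
    rw [blk_mul, ← upSL_add, CharTwo.add_self_eq_zero, upSL_zero] at hsq
    rcases eq_or_ne α 0 with rfl | hα
    · rw [upSL_zero] at hc
      rw [noY _ hc]; rfl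
    have := congrFun (noY _ hsq) 1
    simp only [Pi.add_apply, vecMul_two, coe_upSL, Pi.zero_apply] at this
    simp at this
    exact (mul_eq_zero.1 (show c 0 * α = 0 by
      linear_combination this - c 1 * CharTwo.two_eq_zero (R := F))).resolve_right hα
  have loQ : ∀ t c, eblk (loSL t) c ∈ Q → c 1 = 0 := by
    intro t c hc
    have hsq := mul_mem hc hc
    rw [blk_mul, ← loSL_add, CharTwo.add_self_eq_zero, loSL_zero] at hsq
    rcases eq_or_ne t 0 with rfl | ht
    · rw [loSL_zero] at hc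
      rw [noY _ hc]; rfl
    have := congrFun (noY _ hsq) 0
    simp only [Pi.add_apply, vecMul_two, coe_loSL, Pi.zero_apply] at this
    simp at this
    exact (mul_eq_zero.1 (show c 1 * t = 0 by
      linear_combination this - c 0 * CharTwo.two_eq_zero (R := F))).resolve_right ht
  have up' : ∀ α, upSL α ∈ L → ∃ φ, eblk (upSL α) ![0, φ] ∈ Q := by
    rintro α ⟨c, hc⟩
    refine ⟨c 1, ?_⟩
    convert hc using 2
    ext i; fin_cases i <;> simp [upQ α c hc]
  -- the additive groups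
  let K : AddSubgroup F :=
    { carrier := {α | upSL α ∈ L}
      zero_mem' := by simp only [Set.mem_setOf_eq, upSL_zero]; exact L.one_mem
      add_mem' := fun {s t} hs ht => by
        simp only [Set.mem_setOf_eq, upSL_add] at *; exact L.mul_mem hs ht
      neg_mem' := fun {s} hs => by simpa [CharTwo.neg_eq] using hs }
  let K' : AddSubgroup F :=
    { carrier := {α | loSL α ∈ L}
      zero_mem' := by simp only [Set.mem_setOf_eq, loSL_zero]; exact L.one_mem
      add_mem' := fun {s t} hs ht => by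
        simp only [Set.mem_setOf_eq, loSL_add] at *; exact L.mul_mem hs ht
      neg_mem' := fun {s} hs => by simpa [CharTwo.neg_eq] using hs }
  obtain ⟨k, hk0, hk⟩ := low
  have hK1 : α₁ ∈ K := ⟨_, hm1⟩
  have hK2 : α₂ ∈ K := ⟨_, hm2⟩
  have hK3 : 3 ≤ Nat.card K := by
    have hsub : ({0, α₁, α₂} : Finset F) ⊆ (K : Set F).toFinset := by
      intro r hr
      simp only [Finset.mem_insert, Finset.mem_singleton] at hr
      simp only [Set.mem_toFinset, SetLike.mem_coe]
      rcases hr with rfl | rfl | rfl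
      exacts [zero_mem _, hK1, hK2]
    have := Finset.card_le_card hsub
    rw [Finset.card_insert_of_notMem (by simp [Ne.symm h1, Ne.symm h2]),
      Finset.card_insert_of_notMem (by simp [h12]), Finset.card_singleton, Set.toFinset_card,
      Fintype.card_eq_nat_card] at this
    exact this
  have hkK : k ∈ K' := ⟨_, hk⟩
  obtain ⟨hcard, hcase⟩ := plane_pair 2 L (K := K) (K' := K') (fun _ => Iff.rfl) (fun _ => Iff.rfl)
    hK3 ⟨k, hkK, hk0⟩
  obtain ⟨E, hE, hprod⟩ := hcase.resolve_right (fun h => by simp at h)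
  have hKE : ∀ r ∈ E, r / k ∈ K := by
    let f : K → E := fun s => ⟨s * k, hprod s s.2 k hkK⟩
    have hf : Function.Injective f := fun s t h =>
      Subtype.ext (mul_right_cancel₀ hk0 (congrArg Subtype.val h))
    intro r hr
    obtain ⟨s, hs⟩ := (hf.bijective_of_nat_card_le hE.le).2 ⟨r, hr⟩
    have hs' : (s : F) * k = r := congrArg Subtype.val hs
    rw [← hs', mul_div_cancel_right₀ _ hk0]
    exact s.2
  have hK'E : ∀ r ∈ E, k * r ∈ K' := by
    let f : K' → E := fun t => ⟨k⁻¹ * t, by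
      have := hprod _ (hKE 1 E.one_mem) t t.2
      rwa [one_div] at this⟩
    have hf : Function.Injective f := fun s t h =>
      Subtype.ext (mul_left_cancel₀ (inv_ne_zero hk0) (congrArg Subtype.val h))
    intro r hr
    obtain ⟨s, hs⟩ := (hf.bijective_of_nat_card_le (by rw [hcard, hE])).2 ⟨r, hr⟩
    have hs' : k⁻¹ * (s : F) = r := congrArg Subtype.val hs
    rw [← hs', mul_inv_cancel_left₀ hk0]
    exact s.2
  set w := k⁻¹ with hw
  have hw0 : w ≠ 0 := inv_ne_zero hk0
  have hwE : ∀ r ∈ E, upSL (w * r) ∈ L := fun r hr => by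
    have := hKE r hr
    rwa [div_eq_inv_mul] at this
  have hphi : ∀ r : E, ∃ φ, eblk (upSL (w * r)) ![0, φ] ∈ Q := fun r => up' _ (hwE r r.2)
  choose Φ hΦ using hphi
  -- the torus
  have htor : ∀ s, ∀ hs : s ≠ 0, s ∈ E → torSL s hs ∈ L := by
    intro s hs hsE
    have hn : ∀ r, r ≠ 0 → r ∈ E → upSL (w * r) * loSL (w * r)⁻¹ * upSL (w * r) ∈ L := by
      intro r hr hrE
      refine L.mul_mem (L.mul_mem (hwE r hrE) ?_) (hwE r hrE)
      have := hK'E r⁻¹ (inv_mem hrE)
      rwa [hw, _root_.mul_inv_rev, inv_inv, mul_comm]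
    have := L.mul_mem (hn s hs hsE) (hn 1 one_ne_zero E.one_mem)
    convert this using 1
    apply Subtype.ext
    rw [Matrix.SpecialLinearGroup.coe_mul, upSL_mul_loSL_mul_upSL (mul_ne_zero hw0 hs),
      upSL_mul_loSL_mul_upSL (mul_ne_zero hw0 one_ne_zero), coe_torSL]
    ext i j
    fin_cases i <;> fin_cases j <;> simp [Matrix.mul_apply, Fin.sum_univ_two] <;> field_simp
  have hrule : ∀ s, s ≠ 0 → s ∈ E → ∃ x, ∀ (r : E) (r' : E), (r' : F) = s ^ 2 * r →
      Φ r' = s * Φ r + s * (x * w * r) := by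
    intro s hs hsE
    obtain ⟨c, hc⟩ := htor s hs hsE
    refine ⟨c 0, fun r r' hr => ?_⟩
    have e : torSL s hs * upSL (w * r) = upSL (w * r') * torSL s hs := by
      apply Subtype.ext
      rw [Matrix.SpecialLinearGroup.coe_mul, Matrix.SpecialLinearGroup.coe_mul, coe_torSL,
        coe_upSL, coe_upSL, hr]
      ext i j
      fin_cases i <;> fin_cases j <;> simp [Matrix.mul_apply, Fin.sum_univ_two] <;> field_simp
    have e1 := mul_mem hc (hΦ r)
    have e2 := mul_mem (hΦ r') hc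
    rw [blk_mul] at e1 e2
    rw [e] at e1
    have := congrFun (uniq _ _ _ e1 e2) 1
    simp only [Pi.add_apply, vecMul_two, coe_upSL, coe_torSL] at this
    simp at this
    have h' : Φ r' * s⁻¹ = Φ r + c 0 * (w * r) := by
      linear_combination (-1 : F) * this
    field_simp at h'
    linear_combination h'
  -- solve
  let G : E → F := fun s => Φ (s ^ 2)
  have hG0 : G 0 = 0 := by
    have h0 := hΦ ((0 : E) ^ 2)
    rw [show ((((0 : E) ^ 2 : E)) : F) = 0 by simp, mul_zero, upSL_zero] at h0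
    have := congrFun (noY _ h0) 1
    simpa [G] using this
  have hGmul : ∀ s q : E, (s : F) ≠ 0 →
      G (s * q) = s * G q + (q : F) ^ 2 * (G s + s * G 1) := by
    intro s q hs
    obtain ⟨x, hx⟩ := hrule s hs s.2
    have e1 := hx (q ^ 2) ((s * q) ^ 2) (by push_cast; ring)
    have e2 := hx (1 ^ 2) (s ^ 2) (by push_cast; ring)
    simp only [SubmonoidClass.coe_pow, OneMemClass.coe_one, one_pow] at e1 e2
    simp only [G, one_pow]
    linear_combination e1 + (-(q : F) ^ 2) * e2 + (-(q : F) ^ 2) * (s : F) * CharTwo.add_self_eq_zero (Φ 1)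
  obtain ⟨q, hq0, hq1⟩ : ∃ q : E, (q : F) ≠ 0 ∧ (q : F) ≠ 1 := by
    by_contra! h
    have hsub : (Finset.univ : Finset E) ⊆ {0, 1} := fun q _ => by
      rcases eq_or_ne (q : F) 0 with h0 | h0
      · simp [show q = 0 from Subtype.ext h0]
      · simp [show q = 1 from Subtype.ext (h q h0)]
    have := (Finset.card_le_card hsub).trans Finset.card_le_two
    rw [Finset.card_univ, Fintype.card_eq_nat_card, hE] at this
    omega
  have hden : (q : F) ^ 2 + q ≠ 0 := by
    rw [pow_two, ← mul_add_one]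
    refine mul_ne_zero hq0 fun h => hq1 ?_
    rw [CharTwo.add_eq_zero.1 h]
  set C := (G q + (q : F) ^ 2 * G 1) / ((q : F) ^ 2 + q)
  set D := (G q + (q : F) * G 1) / ((q : F) ^ 2 + q)
  have hG : ∀ s : E, G s = C * s + D * (s : F) ^ 2 := by
    intro s
    rcases eq_or_ne (s : F) 0 with h0 | h0
    · rw [show s = 0 from Subtype.ext h0, hG0]; simp
    · have e1 := hGmul s q h0
      have e2 := hGmul q s hq0
      rw [mul_comm q s] at e2
      have h2 := CharTwo.two_eq_zero (R := F)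
      refine mul_right_cancel₀ hden ?_
      rw [add_mul, mul_comm C, mul_comm D, mul_assoc, mul_assoc, div_mul_cancel₀ _ hden,
        div_mul_cancel₀ _ hden]
      linear_combination (e2 - e1) + ((q : F) * G s - (s : F) * G q -
        (q : F) ^ 2 * (s : F) * G 1) * h2
  refine ⟨E, w, C, D, hw0, hE ▸ hK3, fun α φ => ⟨fun h => ?_, ?_⟩⟩
  · have hr : α * k ∈ E := hprod α ⟨_, h⟩ k hkK
    obtain ⟨s, hs, hsq⟩ := exists_sqrt E hr
    have hα : α = w * s ^ 2 := by rw [hsq, hw]; field_simp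
    refine ⟨s, hs, hα, ?_⟩
    have h' : eblk (upSL α) ![0, G ⟨s, hs⟩] ∈ Q := by
      have e := hΦ ((⟨s, hs⟩ : E) ^ 2)
      rw [SubmonoidClass.coe_pow] at e
      rw [hα]
      simpa only [G] using e
    have := congrFun (uniq _ _ _ h h') 1
    simpa [hG] using this
  · rintro ⟨s, hs, rfl, rfl⟩
    have e := hΦ ((⟨s, hs⟩ : E) ^ 2)
    rw [SubmonoidClass.coe_pow] at e
    rw [← hG ⟨s, hs⟩]
    simpa only [G] using e

end CfsgLib.PGLThree
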