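import Cfsg.Agent.PGLThree.Pair

/-!
# Flags of an irreducible group: opposite flags, duality and uniform scalars

An invariant family of flags has a member opposite to any given flag; so the number of
transvections of a flag is either always two or always the same number `q ≥ 3`.
-/

set_option autoImplicit false
set_option linter.unusedSectionVars false

namespace CfsgLib.PGLThree

open Matrix Cfsg.Geo CfsgLib.MaxSub CfsgLib.SLThree
open CfsgLib.Aschbacher (mat)

variable {F : Type*} [Field F] {M : Subgroup (GL (Fin 3) F)} {v w a b e z : Fin 3 → F}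

theorem indep_mulVec (g : GL (Fin 3) F) (h : Indep v w) :
    Indep (mat g *ᵥ v) (mat g *ᵥ w) := fun s t e => by
  refine h s t ?_
  have := congrArg (mat g⁻¹ *ᵥ ·) e
  simpa [mat, mulVec_add, mulVec_smul, mulVec_mulVec] using this

/-- Duality preserves irreducibility. -/
theorem irreducible_dual (hirr : Irreducible M) : Irreducible (SLThree.dual M) := by
  intro W hW
  let A : Submodule F (Fin 3 → F) :=
    { carrier := {x | ∀ y ∈ W, y ⬝ᵥ x = 0}
      add_mem' := fun hx hy z hz => by simp [dotProduct_add, hx z hz, hy z hz]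
      zero_mem' := fun z _ => by simp
      smul_mem' := fun c x hx z hz => by simp [dotProduct_smul, hx z hz] }
  have hA : ∀ g ∈ M, ∀ x ∈ A, (g : Matrix (Fin 3) (Fin 3) F) *ᵥ x ∈ A := by
    intro g hg x hx y hy
    rw [dotProduct_mulVec]
    refine hx _ ?_
    have h := hW (dualEquiv g⁻¹) (Subgroup.mem_map_of_mem _ (inv_mem hg)) y hy
    rwa [dualEquiv_coe, inv_inv, mulVec_transpose] at h
  rcases hirr A hA with h | h
  · refine Or.inr (eq_top_iff.2 fun x _ => by_contra fun hx => ?_)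
    obtain ⟨y, hy, hyx⟩ := exists_dot_of_notMem W hx
    have hmem : y ∈ A := fun u hu => by rw [dotProduct_comm]; exact hy u hu
    rw [h, Submodule.mem_bot] at hmem
    simp [hmem] at hyx
  · refine Or.inl (eq_bot_iff.2 fun y hy => (Submodule.mem_bot F).2 (by_contra fun hy0 => ?_))
    obtain ⟨x, hx⟩ := exists_dot_eq_one hy0
    have hxA : x ∈ A := h ▸ Submodule.mem_top
    have := hxA y hy
    rw [dotProduct_comm, hx] at this
    exact one_ne_zero this

/-- A conjugate centre off a given axis. -/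
theorem exists_conj_centre (hirr : Irreducible M) (ha : a ≠ 0) (hz : z ≠ 0) :
    ∃ g ∈ M, a ⬝ᵥ (mat g *ᵥ z) ≠ 0 := by
  by_contra! hall
  let W := Submodule.span F {x | ∃ g ∈ M, x = mat g *ᵥ z}
  rcases hirr W (fun g hg x hx => by
    have hle : W ≤ W.comap (Matrix.toLin' (g : Matrix (Fin 3) (Fin 3) F)) := by
      refine Submodule.span_le.2 ?_
      rintro _ ⟨k, hk, rfl⟩
      simp only [SetLike.mem_coe, Submodule.mem_comap, Matrix.toLin'_apply, mat, mulVec_mulVec]
      exact Submodule.subset_span ⟨g * k, M.mul_mem hg hk, by simp [mat]⟩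
    simpa using hle hx) with hW | hW
  · have : z ∈ W := Submodule.subset_span ⟨1, M.one_mem, by simp [mat]⟩
    rw [hW, Submodule.mem_bot] at this
    exact hz this
  · obtain ⟨y, hy⟩ := exists_dot_eq_one ha
    have hle : W ≤ LinearMap.ker (dotProductEquiv F (Fin 3) a) := by
      refine Submodule.span_le.2 ?_
      rintro _ ⟨k, hk, rfl⟩
      exact hall k hk
    rw [hW] at hle
    have : a ⬝ᵥ y = 0 := hle (Submodule.mem_top (x := y))
    rw [dotProduct_comm, hy] at this
    exact one_ne_zero this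

/-- A conjugate axis off a given centre. -/
theorem exists_conj_axis (hirr : Irreducible M) (he : e ≠ 0) (hv : v ≠ 0) :
    ∃ g ∈ M, (e ᵥ* mat g⁻¹) ⬝ᵥ v ≠ 0 := by
  obtain ⟨g, hg, h⟩ := exists_conj_centre hirr he hv
  exact ⟨g⁻¹, inv_mem hg, by rwa [inv_inv, ← dotProduct_mulVec]⟩

/-- An invariant family of flags has a member opposite to a given flag. -/
theorem exists_opposite (hirr : Irreducible M) (Φ : (Fin 3 → F) → (Fin 3 → F) → Prop)
    (hflag : ∀ z e, Φ z e → Flag M z e)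
    (hinv : ∀ g ∈ M, ∀ z e, Φ z e → Φ (mat g *ᵥ z) (e ᵥ* mat g⁻¹))
    (hne : ∃ z e, Φ z e) (hv : v ≠ 0) (ha : a ≠ 0) (hav : a ⬝ᵥ v = 0) :
    ∃ z e, Φ z e ∧ a ⬝ᵥ z ≠ 0 ∧ e ⬝ᵥ v ≠ 0 := by
  obtain ⟨z₀, e₀, h₀⟩ := hne
  obtain ⟨g, hg, haz⟩ := exists_conj_centre hirr ha (hflag _ _ h₀).centre_ne
  obtain ⟨g', hg', hev'⟩ := exists_conj_axis hirr (hflag _ _ h₀).axis_ne hv
  by_contra! hcon
  set z := mat g *ᵥ z₀
  set e := e₀ ᵥ* mat g⁻¹
  set z' := mat g' *ᵥ z₀
  set e' := e₀ ᵥ* mat g'⁻¹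
  have h1 : Φ z e := hinv g hg _ _ h₀
  have h2 : Φ z' e' := hinv g' hg' _ _ h₀
  have hev : e ⬝ᵥ v = 0 := hcon _ _ h1 haz
  have haz' : a ⬝ᵥ z' = 0 := by_contra fun h => hev' (hcon _ _ h2 h)
  have hind : Indep e a := indep_of_dot (hflag _ _ h1).dot haz (hflag _ _ h1).axis_ne
  have hez' : e ⬝ᵥ z' ≠ 0 := fun h => by
    obtain ⟨c, hc⟩ := exists_smul_of_dot hind hv hev hav h haz'
    have := (hflag _ _ h2).dot
    rw [← hc, dotProduct_smul, smul_eq_mul] at this
    rcases mul_eq_zero.1 this with hc0 | h0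
    · exact (hflag _ _ h2).centre_ne (by rw [← hc, hc0, zero_smul])
    · exact hev' h0
  obtain ⟨hdot, -, -, c, hc, hm⟩ := hflag _ _ h1
  have hd : e ⬝ᵥ (c • z) = 0 := by simp [dotProduct_smul, hdot]
  have h3 := hinv _ hm _ _ h2
  have hd' : e ⬝ᵥ (-(c • z)) = 0 := by simp [hd]
  rw [mat, mat, tv_mulVec hd, tv_inv, vecMul_tv hd'] at h3
  refine hev' ?_
  have h4 := hcon _ _ h3 (by simp [dotProduct_add, dotProduct_smul, haz', hc, haz, hez'])
  simpa [add_dotProduct, smul_dotProduct, hev] using h4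

theorem mem_scal_conj {g : GL (Fin 3) F} (hg : g ∈ M) {h : a ⬝ᵥ v = 0}
    {h' : (a ᵥ* mat g⁻¹) ⬝ᵥ (mat g *ᵥ v) = 0} {s : F} :
    s ∈ scal M (mat g *ᵥ v) (a ᵥ* mat g⁻¹) h' ↔ s ∈ scal M v a h := by
  rw [mem_scal, mem_scal]
  constructor
  · intro hs
    have := tv_mem_conj (inv_mem hg) hs
    rw [inv_inv, mulVec_smul] at this
    simpa [mat, mulVec_mulVec, vecMul_vecMul] using this
  · intro hs
    have := tv_mem_conj hg hs
    rwa [mulVec_smul] at this

theorem scal_dual (h : a ⬝ᵥ v = 0) (h' : v ⬝ᵥ a = 0) :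
    scal (SLThree.dual M) a v h' = scal M v a h := by
  have key : ∀ u : F, dualEquiv (tv (-u • v) a) = tv (u • a) v := fun u => by
    rw [dualEquiv_tv (by simp [h]), tv_smul_right]
    congr 1
    module
  ext s
  rw [mem_scal]
  constructor
  · rintro ⟨g, hg, he⟩
    rw [MulEquiv.coe_toMonoidHom, ← key] at he
    rw [dualEquiv.injective he] at hg
    simpa using (scal M v a h).neg_mem hg
  · intro hs
    exact ⟨_, (scal M v a h).neg_mem hs, key s⟩

/-- All flags have the same number of transvections, the identity included. -/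
structure Uniform (M : Subgroup (GL (Fin 3) F)) (q : ℕ) : Prop where
  irr : Irreducible M
  card : ∀ v a (h : Flag M v a), Nat.card (scal M v a h.dot) = q

theorem Uniform.toDual {q : ℕ} (hu : Uniform M q) : Uniform (SLThree.dual M) q :=
  ⟨irreducible_dual hu.irr, fun v a h => by
    have h' := flag_dual_iff.1 h
    rw [scal_dual h'.dot h.dot, hu.card _ _ h']⟩

variable [Fintype F]

theorem two_le_card_scal (h : Flag M v a) : 2 ≤ Nat.card (scal M v a h.dot) := by
  obtain ⟨s, hs, hs0⟩ := h.scal_ne_bot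
  exact Finite.one_lt_card_iff_nontrivial.2
    ⟨⟨s, hs⟩, 0, fun he => hs0 (congrArg Subtype.val he)⟩

/-- Either all flags have two transvections or all have the same number `q ≥ 3`. -/
theorem exists_uniform (p : ℕ) [Fact p.Prime] [CharP F p] (hirr : Irreducible M) :
    ∃ q, Uniform M q ∧ (q = 2 ∨ 3 ≤ q) := by
  by_cases hbig : ∃ v a, ∃ h : Flag M v a, 3 ≤ Nat.card (scal M v a h.dot)
  · obtain ⟨v₀, a₀, h₀, h3⟩ := hbig
    refine ⟨_, ⟨hirr, fun v a h => ?_⟩, Or.inr h3⟩
    obtain ⟨z, e, ⟨hze, hcard⟩, haz, hev⟩ := exists_opposite hirr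
      (fun z e => ∃ h : Flag M z e, Nat.card (scal M z e h.dot) = Nat.card (scal M v₀ a₀ h₀.dot))
      (fun z e h => h.1)
      (fun g hg z e ⟨h, hc⟩ => ⟨h.conj hg, by
        rw [← hc]
        exact Nat.card_congr (Equiv.subtypeEquivRight fun s => mem_scal_conj hg)⟩)
      ⟨v₀, a₀, h₀, rfl⟩ h.centre_ne h.axis_ne h.dot
    rw [(pair p hze h hev haz (hcard.symm ▸ h3)).1, hcard]
  · push Not at hbig
    exact ⟨2, ⟨hirr, fun v a h => le_antisymm (Nat.lt_succ_iff.1 (hbig v a h))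
      (two_le_card_scal h)⟩, Or.inl rfl⟩

/-- The centres, with scalars, of the transvections with a given axis. -/
noncomputable def axisGroup (M : Subgroup (GL (Fin 3) F)) (a : Fin 3 → F) :
    AddSubgroup (Fin 3 → F) where
  carrier := {u | a ⬝ᵥ u = 0 ∧ tv u a ∈ M}
  zero_mem' := ⟨dotProduct_zero a, by simp [tv_zero_left]⟩
  add_mem' hu hw := ⟨by simp [dotProduct_add, hu.1, hw.1], tv_mem_add_left hu.1 hw.1 hu.2 hw.2⟩
  neg_mem' {u} hu := ⟨by simp [hu.1], by rw [← tv_inv]; exact M.inv_mem hu.2⟩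

omit [Fintype F] in
theorem mem_axisGroup {u : Fin 3 → F} : u ∈ axisGroup M a ↔ a ⬝ᵥ u = 0 ∧ tv u a ∈ M := Iff.rfl

omit [Fintype F] in
theorem flag_of_mem_axisGroup {u : Fin 3 → F} (ha : a ≠ 0) (h : u ∈ axisGroup M a) (hu : u ≠ 0) :
    Flag M u a :=
  flag_of_tv h.1 hu ha h.2

omit [Fintype F] in
theorem smul_mem_axisGroup {h : a ⬝ᵥ v = 0} {s : F} (hs : s ∈ scal M v a h) :
    s • v ∈ axisGroup M a :=
  ⟨by simp [dotProduct_smul, h], hs⟩

/-- An axis with two centres. -/
def AxisDouble (M : Subgroup (GL (Fin 3) F)) (a : Fin 3 → F) : Prop :=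
  ∃ v w, Flag M v a ∧ Flag M w a ∧ Indep v w

omit [Fintype F] in
theorem AxisDouble.conj (h : AxisDouble M a) {g : GL (Fin 3) F} (hg : g ∈ M) :
    AxisDouble M (a ᵥ* mat g⁻¹) := by
  obtain ⟨v, w, hv, hw, hi⟩ := h
  exact ⟨_, _, hv.conj hg, hw.conj hg, indep_mulVec g hi⟩

omit [Fintype F] in
theorem AxisDouble.exists_other (h : AxisDouble M a) {x : Fin 3 → F} (hx : x ≠ 0) :
    ∃ u, Flag M u a ∧ Indep x u := by
  obtain ⟨v, w, hv, hw, hi⟩ := h
  rcases indep_or_smul hx v with h1 | ⟨c, rfl⟩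
  · exact ⟨v, hv, h1⟩
  rcases indep_or_smul hx w with h2 | ⟨d, rfl⟩
  · exact ⟨w, hw, h2⟩
  exfalso
  have := hi d (-c) (by rw [smul_smul, smul_smul]; rw [← add_smul]; simp [mul_comm])
  exact hw.centre_ne (by rw [this.1, zero_smul])

omit [Fintype F] in
/-- A double configuration gives an axis with two centres in the group or in its dual. -/
theorem Double.axisDouble (h : Double M) :
    (∃ a, AxisDouble M a) ∨ ∃ v, AxisDouble (SLThree.dual M) v := by
  obtain ⟨v, a, w, b, hv, hw, haw, hor⟩ := h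
  by_cases hi : Indep v w
  · exact Or.inl ⟨a, v, w, hv, hv.spread hw haw, hi⟩
  · obtain ⟨c, hc⟩ := (indep_or_smul hv.centre_ne w).resolve_left hi
    have hc0 : c ≠ 0 := fun e => hw.centre_ne (by rw [← hc, e, zero_smul])
    have hvb : Flag M v b := by
      have := hw.smul_centre (inv_ne_zero hc0)
      rwa [← hc, inv_smul_smul₀ hc0] at this
    exact Or.inr ⟨v, a, b, hv.toDual, hvb.toDual, hor.resolve_left hi⟩

end CfsgLib.PGLThree
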