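import Cfsg.Agent.PGLThree.Double.Many

/-!
# Incident flags have two transvections

With at least three transvections to a flag, a triangle of six flags can be normalised so that all
transvections have matrices over the subfield of order `q`; so do all elements of the group, which
then contains a complete root group.
-/

set_option autoImplicit false
set_option linter.unusedSectionVars false

namespace CfsgLib.PGLThree

open Matrix Cfsg.Geo CfsgLib.MaxSub CfsgLib.SLThree
open CfsgLib.Aschbacher (mat)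

variable {F : Type*} [Field F] [Fintype F] {M P : Subgroup (GL (Fin 3) F)} {q : ℕ}

/-- A triangle with normalised flags. -/
structure Frame (M : Subgroup (GL (Fin 3) F)) (V A : Fin 3 → Fin 3 → F) : Prop where
  dot : ∀ i j, A i ⬝ᵥ V j = if i = j then 1 else 0
  flag : ∀ i j, i ≠ j → Flag M (V i) (A j)
  mem01 : tv (V 0) (A 1) ∈ M
  mem12 : tv (V 1) (A 2) ∈ M

theorem Frame.mem02 {V A : Fin 3 → Fin 3 → F} (h : Frame M V A) : tv (V 0) (A 2) ∈ M := by
  have := tv_rule_axis (v := V 1) (a := A 2) (w := V 0) (b := A 1) (by simp [h.dot])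
    (by simp [h.dot]) (by simp [h.dot]) h.mem12 h.mem01
  rwa [h.dot, if_pos rfl, one_smul] at this

theorem exists_frame (p : ℕ) [Fact p.Prime] [CharP F p] (hu : Uniform M q) (hq : 3 ≤ q)
    (hA : AllDouble M) {v₀ a : Fin 3 → F} (h₀ : Flag M v₀ a) : ∃ V A, Frame M V A := by
  obtain ⟨v, w, hv, hw, hi⟩ := (hA _ _ h₀).1
  obtain ⟨d, hd, hid⟩ := hA.exists_axis hv
  obtain ⟨e, he, hie⟩ := hA.exists_axis hw
  have hdw : d ⬝ᵥ w ≠ 0 := fun h => by
    obtain ⟨c, hc⟩ := exists_smul_of_dot hid hv.centre_ne hv.dot hd.dot hw.dot h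
    have := (hi c (-1) (by rw [hc]; simp)).2
    simp at this
  have hev : e ⬝ᵥ v ≠ 0 := fun h => by
    obtain ⟨c, hc⟩ := exists_smul_of_dot hie hw.centre_ne hw.dot he.dot hv.dot h
    have := (hi (-1) c (by rw [hc]; simp)).1
    simp at this
  obtain ⟨O, hOd, hOe⟩ := exists_centre_on p hu hq (hA v d hd).1 he hdw
  have haO : a ⬝ᵥ O ≠ 0 := fun h => by
    obtain ⟨c, hc⟩ := exists_smul_of_dot hid hv.centre_ne hv.dot hd.dot h hOd.dot
    have h2 : c * (e ⬝ᵥ v) = 0 := by rw [← smul_eq_mul, ← dotProduct_smul, hc, hOe.dot]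
    exact hOd.centre_ne (by rw [← hc, (mul_eq_zero.1 h2).resolve_right hev, zero_smul])
  obtain ⟨k, hk, hk0⟩ := hd.scal_ne_bot
  obtain ⟨k', hk', hk'0⟩ := hw.scal_ne_bot
  have hc1 : (k * (d ⬝ᵥ w))⁻¹ ≠ 0 := inv_ne_zero (mul_ne_zero hk0 hdw)
  have hm : k' * (k * (d ⬝ᵥ w)) ≠ 0 := mul_ne_zero hk'0 (mul_ne_zero hk0 hdw)
  refine ⟨![v, (k * (d ⬝ᵥ w))⁻¹ • w, (k' * (k * (d ⬝ᵥ w)) * (a ⬝ᵥ O))⁻¹ • O],
    ![(e ⬝ᵥ v)⁻¹ • e, k • d, (k' * (k * (d ⬝ᵥ w))) • a], ?_, ?_, ?_, ?_⟩
  · intro i j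
    fin_cases i <;> fin_cases j <;>
      simp [dotProduct_smul, smul_dotProduct, hv.dot, hw.dot, hd.dot, he.dot, hOd.dot, hOe.dot] <;>
      field_simp
  · intro i j hij
    fin_cases i <;> fin_cases j
    all_goals first | (exact absurd rfl hij) | skip
    · exact hd.smul_axis hk0
    · exact hv.smul_axis hm
    · exact (he.smul_centre hc1).smul_axis (inv_ne_zero hev)
    · exact (hw.smul_centre hc1).smul_axis hm
    · exact (hOe.smul_centre (inv_ne_zero (mul_ne_zero hm haO))).smul_axis (inv_ne_zero hev)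
    · exact (hOd.smul_centre (inv_ne_zero (mul_ne_zero hm haO))).smul_axis hk0
  · show tv v (k • d) ∈ M
    rw [tv_smul_right]
    exact hk
  · show tv ((k * (d ⬝ᵥ w))⁻¹ • w) ((k' * (k * (d ⬝ᵥ w))) • a) ∈ M
    rwa [tv_smul_right, smul_smul, mul_assoc, mul_inv_cancel₀ (mul_ne_zero hk0 hdw), mul_one]

/-- Two transvections pair into the subfield. -/
theorem rat (p : ℕ) [Fact p.Prime] [CharP F p] (hu : Uniform M q) (hq : 3 ≤ q) (hA : AllDouble M)
    {F₀ : Subfield F} (hF₀ : Nat.card F₀ = q) {u a w b : Fin 3 → F} (hau : a ⬝ᵥ u = 0)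
    (hbw : b ⬝ᵥ w = 0) (h1 : tv u a ∈ M) (h2 : tv w b ∈ M) :
    (a ⬝ᵥ w) * (b ⬝ᵥ u) ∈ F₀ := by
  by_cases h : (a ⬝ᵥ w) * (b ⬝ᵥ u) = 0
  · exact h ▸ zero_mem F₀
  obtain ⟨haw, hbu⟩ := mul_ne_zero_iff.1 h
  have hf : Flag M u a := flag_of_tv hau (fun e => hbu (by simp [e])) (fun e => haw (by simp [e])) h1
  have hg : Flag M w b := flag_of_tv hbw (fun e => haw (by simp [e])) (fun e => hbu (by simp [e])) h2
  obtain ⟨F₁, hF₁, hm⟩ := pair_field p hu hq hA hf hg haw hbu
  have := hm 1 (by rwa [mem_scal, one_smul]) 1 (by rwa [mem_scal, one_smul])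
  rw [one_mul, one_mul] at this
  exact mem_of_pow_eq_self hF₀ hq (pow_eq_self_of_mem hF₁ this)

/-- The transvections have coordinates over the subfield. -/
theorem entries_mem (p : ℕ) [Fact p.Prime] [CharP F p] (hu : Uniform M q) (hq : 3 ≤ q)
    (hA : AllDouble M) {F₀ : Subfield F} (hF₀ : Nat.card F₀ = q) {V A : Fin 3 → Fin 3 → F}
    (hf : Frame M V A) {u b : Fin 3 → F} (hbu : b ⬝ᵥ u = 0) (hm : tv u b ∈ M) (i j : Fin 3) :
    (A i ⬝ᵥ u) * (b ⬝ᵥ V j) ∈ F₀ := by
  have hrat := fun {u a w b : Fin 3 → F} => rat p hu hq hA hF₀ (u := u) (a := a) (w := w) (b := b)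
  have hd := hf.dot
  -- scalars of the six flags
  have hk : ∀ i j : Fin 3, i ≠ j → ∃ k ∈ F₀, k ≠ 0 ∧ tv (k • V i) (A j) ∈ M := by
    have back : ∀ i j : Fin 3, i ≠ j → tv (V i) (A j) ∈ M →
        ∃ k ∈ F₀, k ≠ 0 ∧ tv (k • V j) (A i) ∈ M := by
      intro i j hij h1
      obtain ⟨k, hk, hk0⟩ := (hf.flag j i hij.symm).scal_ne_bot
      refine ⟨k, ?_, hk0, hk⟩
      have := hrat (by simp [hd, hij.symm]) (by simp [hd, hij, dotProduct_smul]) h1 hk
      simpa [dotProduct_smul, hd] using this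
    intro i j hij
    fin_cases i <;> fin_cases j
    all_goals first | (exact absurd rfl hij) | skip
    · exact ⟨1, one_mem _, one_ne_zero, by rw [one_smul]; exact hf.mem01⟩
    · exact ⟨1, one_mem _, one_ne_zero, by rw [one_smul]; exact hf.mem02⟩
    · exact back 0 1 (by decide) hf.mem01
    · exact ⟨1, one_mem _, one_ne_zero, by rw [one_smul]; exact hf.mem12⟩
    · exact back 0 2 (by decide) hf.mem02
    · exact back 1 2 (by decide) hf.mem12
  set m : Fin 3 → Fin 3 → F := fun i j => (A i ⬝ᵥ u) * (b ⬝ᵥ V j) with hmdef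
  show m i j ∈ F₀
  have hoff : ∀ i j : Fin 3, i ≠ j → m i j ∈ F₀ := by
    intro i j hij
    obtain ⟨k, hk', hk0, hkm⟩ := hk j i hij.symm
    have := hrat hbu (by simp [hd, dotProduct_smul, hij]) hm hkm
    rw [dotProduct_smul, smul_eq_mul, mul_assoc, mul_comm (b ⬝ᵥ V j)] at this
    have h2 := mul_mem (inv_mem hk') this
    rwa [inv_mul_cancel_left₀ hk0] at h2
  have hdiff : ∀ i j : Fin 3, i ≠ j → tv (V i) (A j) ∈ M → m i i - m j j ∈ F₀ := by
    intro i j hij hg
    obtain ⟨k, hk', hk0, hkm⟩ := hk j i hij.symm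
    have h0 : A j ⬝ᵥ V i = 0 := by simp [hd, hij.symm]
    have hc := tv_mem_conj hg hkm
    rw [tv_mulVec h0, tv_inv, vecMul_tv (by simp [h0])] at hc
    simp only [dotProduct_neg, hd, if_true, dotProduct_smul, smul_eq_mul, mul_one,
      neg_smul, one_smul] at hc
    have h' := hrat hbu (by simp [dotProduct_add, add_dotProduct, dotProduct_smul, hd, hij, hij.symm]) hm hc
    rw [show (b ⬝ᵥ (k • V j + k • V i)) * ((A i + -A j) ⬝ᵥ u) =
      k * (m i j + m i i - m j j - m j i) by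
        simp only [hmdef, dotProduct_add, dotProduct_smul, add_dotProduct, neg_dotProduct,
          smul_eq_mul]
        ring] at h'
    have h2 := mul_mem (inv_mem hk') h'
    rw [inv_mul_cancel_left₀ hk0] at h2
    have := add_mem (sub_mem h2 (hoff i j hij)) (hoff j i hij.symm)
    rwa [show m i j + m i i - m j j - m j i - m i j + m j i = m i i - m j j by ring] at this
  have h01 := hdiff 0 1 (by decide) hf.mem01
  have h12 := hdiff 1 2 (by decide) hf.mem12
  suffices h00 : m 0 0 ∈ F₀ by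
    rcases eq_or_ne i j with rfl | hij
    · fin_cases i
      · exact h00
      · have := sub_mem h00 h01; rwa [sub_sub_cancel] at this
      · have := sub_mem (sub_mem h00 h01) h12
        rwa [sub_sub_cancel, sub_sub_cancel] at this
    · exact hoff i j hij
  by_contra h00
  have h11 : m 1 1 ∉ F₀ := fun h => h00 (by simpa using add_mem h01 h)
  have h22 : m 2 2 ∉ F₀ := fun h => h11 (by simpa using add_mem h12 h)
  have hzero : ∀ i j k : Fin 3, i ≠ j → i ≠ k → j ≠ k → m k k ∉ F₀ → m i j = 0 := by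
    intro i j k hij hik hjk hkk
    by_contra h0
    have := mul_mem (inv_mem (hoff i j hij)) (mul_mem (hoff i k hik) (hoff k j hjk.symm))
    rw [show m i k * m k j = m i j * m k k by simp only [hmdef]; ring,
      inv_mul_cancel_left₀ h0] at this
    exact hkk this
  have h := hzero 0 1 2 (by decide) (by decide) (by decide) h22
  have hp : m 0 0 * m 1 1 = 0 := by
    rw [show m 0 0 * m 1 1 = m 0 1 * m 1 0 by simp only [hmdef]; ring, h, zero_mul]
  rcases mul_eq_zero.1 hp with h | h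
  · exact h00 (h ▸ zero_mem F₀)
  · exact h11 (h ▸ zero_mem F₀)

/-- **The flags of a double configuration have two transvections.** -/
theorem false_of_many (p : ℕ) [Fact p.Prime] [CharP F p] (hc : Ctx P) (hd : Double P)
    (hu : Uniform P q) (hq : 3 ≤ q) : False := by
  classical
  have hA := allDouble_of_double p hu hq hd
  obtain ⟨v₀, a₀, -, -, hv₀, -⟩ := hd
  obtain ⟨V, A, hf⟩ := exists_frame p hu hq hA hv₀
  obtain ⟨F₀, hF₀, -⟩ := pair_field p hu hq hA (hf.flag 0 1 (by decide))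
    (hf.flag 1 0 (by decide)) (by simp [hf.dot]) (by simp [hf.dot])
  set R : Matrix (Fin 3) (Fin 3) F := Matrix.of fun i j => A i j
  set T : Matrix (Fin 3) (Fin 3) F := Matrix.of fun i j => V j i
  have hRT : R * T = 1 := by
    ext i j
    rw [Matrix.one_apply]
    exact hf.dot i j
  have hTR : T * R = 1 := mul_eq_one_comm.1 hRT
  have hE : ∀ (X : Matrix (Fin 3) (Fin 3) F) (i j : Fin 3),
      (R * X * T) i j = A i ⬝ᵥ (X *ᵥ V j) := fun X i j => by rw [Matrix.mul_assoc]; rfl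
  have hmul : ∀ g h : GL (Fin 3) F, (∀ i j, (R * mat g * T) i j ∈ F₀) →
      (∀ i j, (R * mat h * T) i j ∈ F₀) → ∀ i j, (R * mat (g * h) * T) i j ∈ F₀ := by
    intro g h hg hh i j
    rw [show R * mat (g * h) * T = (R * mat g * T) * (R * mat h * T) by
      simp only [mat, Units.val_mul, Matrix.mul_assoc]
      rw [← Matrix.mul_assoc T R, hTR, Matrix.one_mul], Matrix.mul_apply]
    exact sum_mem fun k _ => mul_mem (hg i k) (hh k j)
  have hone : ∀ i j, (R * mat (1 : GL (Fin 3) F) * T) i j ∈ F₀ := fun i j => by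
    rw [show R * mat (1 : GL (Fin 3) F) * T = 1 by simp [mat, hRT], Matrix.one_apply]
    split_ifs
    exacts [one_mem _, zero_mem _]
  let W : Subgroup (GL (Fin 3) F) :=
    { carrier := {g | ∀ i j, (R * mat g * T) i j ∈ F₀}
      mul_mem' := fun {g h} => hmul g h
      one_mem' := hone
      inv_mem' := fun {g} hg => by
        have hpow : ∀ n : ℕ, ∀ i j, (R * mat (g ^ n) * T) i j ∈ F₀ := by
          intro n
          induction n with
          | zero => rw [pow_zero]; exact hone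
          | succ n ih => rw [pow_succ]; exact hmul _ _ ih hg
        have hinv : g⁻¹ = g ^ (orderOf g - 1) := inv_eq_of_mul_eq_one_right (by
          rw [← pow_succ', Nat.sub_add_cancel (orderOf_pos g), pow_orderOf_eq_one])
        rw [Set.mem_setOf_eq, hinv]
        exact hpow _ }
  let S : Set P := {g | ∃ u b, b ⬝ᵥ u = 0 ∧ (g : GL (Fin 3) F) = tv u b}
  haveI : (Subgroup.normalClosure S).Normal := Subgroup.normalClosure_normal
  have htop : Subgroup.normalClosure S = ⊤ := by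
    refine hc.core.eq_top_of_normal _ fun hle => ?_
    obtain ⟨c, hcm⟩ := mem_Z_iff.1 (hle (Subgroup.subset_normalClosure
      (show (⟨_, hf.mem01⟩ : P) ∈ S from ⟨_, _, by simp [hf.dot], rfl⟩)))
    have h0 : A 1 ⬝ᵥ V 0 = 0 := by simp [hf.dot]
    have hfl := hf.flag 0 1 (by decide)
    have e1 := congrArg (fun X : Matrix (Fin 3) (Fin 3) F => A 0 ⬝ᵥ (X *ᵥ V 0)) hcm
    simp [mat, tv_mulVec h0, h0, smul_mulVec, dotProduct_smul, hf.dot] at e1
    refine tv_ne_one h0 hfl.centre_ne hfl.axis_ne (Units.ext ?_)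
    rw [Units.val_one]
    exact hcm.trans (by rw [← e1, one_smul])
  have hWle : Subgroup.normalClosure S ≤ W.comap P.subtype := by
    rw [Subgroup.normalClosure, Subgroup.closure_le]
    intro g hg
    obtain ⟨s, ⟨u, b, hbu, hs⟩, hsg⟩ := Group.mem_conjugatesOfSet_iff.1 hg
    obtain ⟨x, rfl⟩ := isConj_iff.1 hsg
    have hus : tv u b ∈ P := hs ▸ s.2
    have hm := tv_mem_conj x.2 hus
    show ∀ i j, (R * mat ((x * s * x⁻¹ : P) : GL (Fin 3) F) * T) i j ∈ F₀
    intro i j
    rw [Subgroup.coe_mul, Subgroup.coe_mul, Subgroup.coe_inv, hs, conj_tv, hE]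
    have hd0 : (b ᵥ* mat (x : GL (Fin 3) F)⁻¹) ⬝ᵥ (mat (x : GL (Fin 3) F) *ᵥ u) = 0 := by
      rw [mat, mat, dot_conj, hbu]
    rw [mat, tv_mulVec hd0, dotProduct_add, dotProduct_smul, smul_eq_mul, hf.dot, mul_comm]
    exact add_mem (by split_ifs <;> simp [one_mem, zero_mem])
      (entries_mem p hu hq hA hF₀ hf hd0 hm i j)
  have hFtop : F₀ = ⊤ := hc.gen F₀ fun g hg => by
    have hgW : ∀ i j, (R * mat g * T) i j ∈ F₀ :=
      hWle (show (⟨g, hg⟩ : P) ∈ Subgroup.normalClosure S by rw [htop]; trivial)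
    have : (mat g).trace = (R * mat g * T).trace := by
      rw [Matrix.trace_mul_cycle, hTR, Matrix.one_mul]
    rw [this]
    exact sum_mem fun i _ => hgW i i
  have hfl := hf.flag 0 1 (by decide)
  have hsc : scal P (V 0) (A 1) hfl.dot = ⊤ := AddSubgroup.eq_top_of_card_eq _ (by
    rw [hu.card _ _ hfl, ← hF₀, hFtop]
    exact Nat.card_congr Subfield.topEquiv.toEquiv)
  exact hc.noRoot _ _ hfl.centre_ne hfl.axis_ne
    ⟨hfl.dot, fun c => mem_scal.1 (hsc ▸ AddSubgroup.mem_top c)⟩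

end CfsgLib.PGLThree
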