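import Cfsg.Agent.PGLThree.Double.Flags

/-!
# Incident flags with at least three transvections: every axis has two centres, no exception

If one axis has two centres and the flags have `q ≥ 3` transvections, every axis has two centres and
every centre two axes; the transvections of one axis form the sum of the two parts at two centres,
and two opposite flags pair into a subfield of order `q`.
-/

set_option autoImplicit false
set_option linter.unusedSectionVars false

namespace CfsgLib.PGLThree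

open Matrix Cfsg.Geo CfsgLib.MaxSub CfsgLib.SLThree
open CfsgLib.Aschbacher (mat)
open Polynomial

variable {F : Type*} [Field F] [Fintype F] {M : Subgroup (GL (Fin 3) F)} {q : ℕ}
  {v w a b e z y u x : Fin 3 → F}

theorem pow_eq_self_of_mem {F₀ : Subfield F} (h : Nat.card F₀ = q) {x : F} (hx : x ∈ F₀) :
    x ^ q = x := by
  classical
  have := congrArg Subtype.val (FiniteField.pow_card (⟨x, hx⟩ : F₀))
  rwa [Fintype.card_eq_nat_card, h, SubmonoidClass.coe_pow] at this

theorem mem_of_pow_eq_self {F₀ : Subfield F} (h : Nat.card F₀ = q) (hq : 3 ≤ q) {x : F}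
    (hx : x ^ q = x) : x ∈ F₀ := by
  classical
  by_contra hn
  have hne : (X ^ q - X : F[X]) ≠ 0 := FiniteField.X_pow_card_sub_X_ne_zero F (by omega)
  have hmem : ∀ y : F, y ^ q = y → y ∈ (X ^ q - X : F[X]).roots.toFinset := fun y hy => by
    simp [hne, hy]
  have hle : (insert x ((F₀ : Set F).toFinset)) ⊆ (X ^ q - X : F[X]).roots.toFinset := by
    intro y hy
    rcases Finset.mem_insert.1 hy with rfl | hy
    · exact hmem _ hx
    · exact hmem _ (pow_eq_self_of_mem h (by simpa using hy))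
  have hcard := (Finset.card_le_card hle).trans ((Multiset.toFinset_card_le _).trans (card_roots' _))
  rw [Finset.card_insert_of_notMem (by simpa using hn), Set.toFinset_card,
    FiniteField.X_pow_card_sub_X_natDegree_eq F (by omega)] at hcard
  have : Fintype.card (F₀ : Set F) = q := by rw [Fintype.card_eq_nat_card]; exact h
  omega

/-- An axis with two centres and a flag whose centre is off it have a common centre. -/
theorem exists_centre_on (p : ℕ) [Fact p.Prime] [CharP F p] (hu : Uniform M q) (hq : 3 ≤ q)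
    (ha : AxisDouble M a) (hz : Flag M z e) (haz : a ⬝ᵥ z ≠ 0) :
    ∃ y, Flag M y a ∧ Flag M y e := by
  classical
  obtain ⟨v, w, hv, hw, hi⟩ := ha
  by_contra hcon
  push Not at hcon
  have hinj : ∀ u ∈ axisGroup M a, e ⬝ᵥ u = 0 → u = 0 := fun u hu he => by_contra fun h0 =>
    hcon u (flag_of_mem_axisGroup hv.axis_ne hu h0)
      ((flag_of_mem_axisGroup hv.axis_ne hu h0).pass_centre hz he haz)
  obtain ⟨k₀, hk, hk0⟩ := hz.scal_ne_bot
  let R : F[X] := (X ^ q - X) * (X ^ 2 + 1)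
  have hne1 : (X ^ q - X : F[X]) ≠ 0 := FiniteField.X_pow_card_sub_X_ne_zero F (by omega)
  have hne2 : (X ^ 2 + 1 : F[X]) ≠ 0 := by
    intro e0
    simpa using congrArg (eval 0) e0
  have hR : R ≠ 0 := mul_ne_zero hne1 hne2
  have hroot : ∀ u ∈ axisGroup M a, k₀ * (a ⬝ᵥ z) * (e ⬝ᵥ u) ∈ R.roots.toFinset := by
    intro u hu'
    rw [Multiset.mem_toFinset, mem_roots hR]
    simp only [IsRoot.def, R, eval_mul, eval_sub, eval_add, eval_pow, eval_X, eval_one, mul_eq_zero]
    rcases eq_or_ne u 0 with rfl | hu0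
    · exact Or.inl (by rw [dotProduct_zero, mul_zero, zero_pow (by omega), sub_zero])
    have hua := flag_of_mem_axisGroup hv.axis_ne hu' hu0
    have h1 : (1 : F) ∈ scal M u a hua.dot := by rw [mem_scal, one_smul]; exact hu'.2
    rcases (pair p hua hz haz (fun h => hu0 (hinj u hu' h)) (hu.card _ _ hua ▸ hq)).2 with
      ⟨F₀, hF₀, hm⟩ | ⟨-, -, hm⟩
    · have := pow_eq_self_of_mem (hF₀.trans (hu.card _ _ hua)) (hm 1 h1 k₀ hk)
      rw [one_mul] at this
      exact Or.inl (by rw [this, sub_self])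
    · have := hm 1 h1 k₀ hk one_ne_zero hk0
      rw [one_mul] at this
      exact Or.inr (by rw [this]; simp)
  have hbig : q * q ≤ Nat.card (axisGroup M a) := by
    rw [← hu.card _ _ hv]
    nth_rw 2 [show Nat.card (scal M v a hv.dot) = Nat.card (scal M w a hw.dot) by
      rw [hu.card _ _ hv, hu.card _ _ hw]]
    rw [← Nat.card_prod]
    refine Nat.card_le_card_of_injective (fun st =>
      (⟨(st.1 : F) • v, smul_mem_axisGroup st.1.2⟩ + ⟨(st.2 : F) • w, smul_mem_axisGroup st.2.2⟩ :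
        axisGroup M a)) ?_
    rintro ⟨⟨s, hs⟩, ⟨t, ht⟩⟩ ⟨⟨s', hs'⟩, ⟨t', ht'⟩⟩ h
    have h' : s • v + t • w = s' • v + t' • w := congrArg Subtype.val h
    obtain ⟨h1, h2⟩ := hi (s - s') (t - t') (by rw [sub_smul, sub_smul, sub_add_sub_comm, h', sub_self])
    simp only [Prod.mk.injEq, Subtype.mk.injEq]
    exact ⟨sub_eq_zero.1 h1, sub_eq_zero.1 h2⟩
  have hsmall : Nat.card (axisGroup M a) ≤ q + 2 := by
    refine le_trans (Nat.card_le_card_of_injective
      (fun u : axisGroup M a => (⟨_, hroot u.1 u.2⟩ : R.roots.toFinset)) ?_) ?_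
    · rintro ⟨u₁, h₁⟩ ⟨u₂, h₂⟩ h
      have h' : k₀ * (a ⬝ᵥ z) * (e ⬝ᵥ u₁) = k₀ * (a ⬝ᵥ z) * (e ⬝ᵥ u₂) := congrArg Subtype.val h
      have := hinj _ ((axisGroup M a).sub_mem h₁ h₂)
        (by rw [dotProduct_sub, mul_left_cancel₀ (mul_ne_zero hk0 haz) h', sub_self])
      exact Subtype.ext (sub_eq_zero.1 this)
    · rw [Nat.card_eq_finsetCard]
      refine (Multiset.toFinset_card_le _).trans ((card_roots' _).trans ?_)
      rw [natDegree_mul hne1 hne2, FiniteField.X_pow_card_sub_X_natDegree_eq F (by omega)]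
      simp [natDegree_add_eq_left_of_natDegree_lt]
  nlinarith [hbig, hsmall, hq]

/-- Every axis has two centres. -/
theorem axisDouble_all (p : ℕ) [Fact p.Prime] [CharP F p] (hu : Uniform M q) (hq : 3 ≤ q)
    {a₀ : Fin 3 → F} (h₀ : AxisDouble M a₀) (hv : Flag M v a) : AxisDouble M a := by
  obtain ⟨z, e, ⟨hze, hde⟩, haz, hev⟩ := exists_opposite hu.irr
    (fun z e => Flag M z e ∧ AxisDouble M e) (fun _ _ h => h.1)
    (fun g hg _ _ h => ⟨h.1.conj hg, h.2.conj hg⟩)
    (by
      obtain ⟨x, y, hx, hy, hi⟩ := h₀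
      exact ⟨x, a₀, hx, x, y, hx, hy, hi⟩)
    hv.centre_ne hv.axis_ne hv.dot
  obtain ⟨y, hye, hya⟩ := exists_centre_on p hu hq hde hv hev
  exact ⟨y, v, hya, hv, indep_of_dot (a := y) (b := v) (x := e)
    (by rw [dotProduct_comm]; exact hye.dot) (by rwa [dotProduct_comm]) hye.centre_ne⟩

/-- An axis with two centres gives a centre with two axes, and conversely. -/
theorem AxisDouble.exists_dual (p : ℕ) [Fact p.Prime] [CharP F p] (hu : Uniform M q) (hq : 3 ≤ q)
    (h : AxisDouble M a) : ∃ y, AxisDouble (SLThree.dual M) y := by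
  obtain ⟨v, w, hv, hw, hi⟩ := h
  obtain ⟨z, e, hze, haz, hev⟩ := exists_opposite hu.irr (fun z e => Flag M z e) (fun _ _ h => h)
    (fun g hg _ _ h => h.conj hg) ⟨v, a, hv⟩ hv.centre_ne hv.axis_ne hv.dot
  obtain ⟨y, hya, hye⟩ := exists_centre_on p hu hq ⟨v, w, hv, hw, hi⟩ hze haz
  exact ⟨y, a, e, hya.toDual, hye.toDual, indep_of_dot hv.dot hev hv.axis_ne⟩

/-- On a double configuration every axis has two centres. -/
theorem axisDouble_of_double (p : ℕ) [Fact p.Prime] [CharP F p] (hu : Uniform M q) (hq : 3 ≤ q)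
    (hd : Double M) (hv : Flag M v a) : AxisDouble M a := by
  rcases hd.axisDouble with ⟨a₀, h₀⟩ | ⟨v₀, h₀⟩
  · exact axisDouble_all p hu hq h₀ hv
  · obtain ⟨y, hy⟩ := h₀.exists_dual p hu.toDual hq
    rw [SLThree.dual_dual] at hy
    exact axisDouble_all p hu hq hy hv

/-- Every axis and every centre is double. -/
def AllDouble (M : Subgroup (GL (Fin 3) F)) : Prop :=
  ∀ v a, Flag M v a → AxisDouble M a ∧ AxisDouble (SLThree.dual M) v

theorem allDouble_of_double (p : ℕ) [Fact p.Prime] [CharP F p] (hu : Uniform M q) (hq : 3 ≤ q)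
    (hd : Double M) : AllDouble M := by
  intro v a hv
  have h := axisDouble_of_double p hu hq hd hv
  obtain ⟨y, hy⟩ := h.exists_dual p hu hq
  exact ⟨h, axisDouble_all p hu.toDual hq hy hv.toDual⟩

theorem AllDouble.toDual (h : AllDouble M) : AllDouble (SLThree.dual M) := fun a v hv => by
  obtain ⟨h1, h2⟩ := h v a (flag_dual_iff.1 hv)
  exact ⟨h2, by rwa [SLThree.dual_dual]⟩

/-- A second axis at a centre. -/
theorem AllDouble.exists_axis (h : AllDouble M) (hv : Flag M v a) :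
    ∃ d, Flag M v d ∧ Indep a d := by
  obtain ⟨d, hd, hi⟩ := (h v a hv).2.exists_other hv.axis_ne
  exact ⟨d, flag_dual_iff.1 hd, hi⟩

/-- The transvections of an axis are the sums of those at two of its centres. -/
theorem axisGroup_sum (hu : Uniform M q) (hA : AllDouble M) (hv : Flag M v a) (hw : Flag M w a)
    (hi : Indep v w) (hx : x ∈ axisGroup M a) :
    ∃ s ∈ scal M v a hv.dot, ∃ t ∈ scal M w a hw.dot, x = s • v + t • w := by
  classical
  obtain ⟨d, hd, hid⟩ := hA.exists_axis hv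
  obtain ⟨k, hk, hk0⟩ := hd.scal_ne_bot
  have hle : Nat.card (axisGroup M a) ≤ q * q := by
    let f : axisGroup M a →+ scal M v a hv.dot :=
      { toFun := fun u => ⟨k * (d ⬝ᵥ (u : Fin 3 → F)), scal_rule u.2.1 hv.dot hd.dot u.2.2 hk⟩
        map_zero' := by simp
        map_add' := fun u₁ u₂ => Subtype.ext (by simp [dotProduct_add, mul_add]) }
    have h1 : Nat.card f.ker ≤ q := by
      rw [← hu.card _ _ hv]
      refine Nat.card_le_card_of_surjective
        (fun s : scal M v a hv.dot => (⟨⟨(s : F) • v, smul_mem_axisGroup s.2⟩,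
          Subtype.ext (by simp [f, dotProduct_smul, hd.dot])⟩ : f.ker)) ?_
      rintro ⟨⟨u, hu'⟩, hker⟩
      have hdu : d ⬝ᵥ u = 0 := by
        have h0 : k * (d ⬝ᵥ u) = 0 := congrArg Subtype.val (AddMonoidHom.mem_ker.1 hker)
        exact (mul_eq_zero.1 h0).resolve_left hk0
      obtain ⟨c, rfl⟩ := exists_smul_of_dot hid hv.centre_ne hv.dot hd.dot hu'.1 hdu
      exact ⟨⟨c, hu'.2⟩, rfl⟩
    have h2 : Nat.card f.range ≤ q := by
      rw [← hu.card _ _ hv]
      exact Nat.card_le_card_of_injective _ Subtype.val_injective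
    rw [← f.ker.card_mul_index, AddSubgroup.index_ker]
    exact Nat.mul_le_mul h1 h2
  let g : scal M v a hv.dot × scal M w a hw.dot → axisGroup M a := fun st =>
    ⟨(st.1 : F) • v, smul_mem_axisGroup st.1.2⟩ + ⟨(st.2 : F) • w, smul_mem_axisGroup st.2.2⟩
  have hg : Function.Injective g := by
    rintro ⟨⟨s, hs⟩, ⟨t, ht⟩⟩ ⟨⟨s', hs'⟩, ⟨t', ht'⟩⟩ h
    have h' : s • v + t • w = s' • v + t' • w := congrArg Subtype.val h
    obtain ⟨h1, h2⟩ := hi (s - s') (t - t') (by rw [sub_smul, sub_smul, sub_add_sub_comm, h', sub_self])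
    simp only [Prod.mk.injEq, Subtype.mk.injEq]
    exact ⟨sub_eq_zero.1 h1, sub_eq_zero.1 h2⟩
  have hsur := hg.bijective_of_nat_card_le (by rw [Nat.card_prod, hu.card _ _ hv, hu.card _ _ hw]; exact hle)
  obtain ⟨⟨s, t⟩, hst⟩ := hsur.2 ⟨x, hx⟩
  exact ⟨s, s.2, t, t.2, (congrArg Subtype.val hst).symm⟩

/-- The same at a centre with two axes. -/
theorem axes_sum (hu : Uniform M q) (hA : AllDouble M) (hya : Flag M y a) (hye : Flag M y e)
    (hi : Indep a e) (hx : x ⬝ᵥ y = 0) (hm : tv y x ∈ M) :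
    ∃ s ∈ scal M y a hya.dot, ∃ t ∈ scal M y e hye.dot, x = s • a + t • e := by
  have hyx : y ⬝ᵥ x = 0 := by rwa [dotProduct_comm]
  have hmem : x ∈ axisGroup (SLThree.dual M) y := by
    refine ⟨hyx, ?_⟩
    have h1 : (1 : F) ∈ scal (SLThree.dual M) x y hyx := by
      rw [scal_dual hx hyx, mem_scal, one_smul]; exact hm
    rwa [mem_scal, one_smul] at h1
  obtain ⟨s, hs, t, ht, hst⟩ := axisGroup_sum hu.toDual hA.toDual hya.toDual hye.toDual hi hmem
  exact ⟨s, (scal_dual hya.dot hya.toDual.dot) ▸ hs, t, (scal_dual hye.dot hye.toDual.dot) ▸ ht, hst⟩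

/-- **Two opposite flags pair into a subfield of order `q`.** -/
theorem pair_field (p : ℕ) [Fact p.Prime] [CharP F p] (hu : Uniform M q) (hq : 3 ≤ q)
    (hA : AllDouble M) (hv : Flag M v a) (hw : Flag M w b) (haw : a ⬝ᵥ w ≠ 0) (hbv : b ⬝ᵥ v ≠ 0) :
    ∃ F₀ : Subfield F, Nat.card F₀ = q ∧ ∀ k ∈ scal M v a hv.dot, ∀ k' ∈ scal M w b hw.dot,
      k * k' * (a ⬝ᵥ w) * (b ⬝ᵥ v) ∈ F₀ := by
  classical
  rcases (pair p hv hw haw hbv (hu.card _ _ hv ▸ hq)).2 with ⟨F₀, hF₀, hm⟩ | ⟨rfl, hc3, hm⟩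
  · exact ⟨F₀, hF₀.trans (hu.card _ _ hv), hm⟩
  exfalso
  have hq3 : q = 3 := (hu.card _ _ hv).symm.trans hc3
  obtain ⟨y, hya, hyb⟩ := exists_centre_on 3 hu hq (hA v a hv).1 hw haw
  have hab : Indep a b := indep_of_dot hv.dot hbv hv.axis_ne
  obtain ⟨k, hk, hk0⟩ := hv.scal_ne_bot
  obtain ⟨k', hk', hk'0⟩ := hw.scal_ne_bot
  -- the axes `a` and `b` are moved along the pencil through `y`
  have step : ∀ {v a w b : Fin 3 → F} (hw : Flag M w b) (hya : Flag M y a) (hyb : Flag M y b),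
      Indep a b → ∀ k' ∈ scal M w b hw.dot, ∀ α ∈ scal M y a hya.dot,
        α * (k' * (a ⬝ᵥ w)) ∈ scal M y b hyb.dot := by
    intro _ a w b hw hya hyb hab k' hk' α hα
    have hg : tv (k' • w) b ∈ M := hk'
    have hd : b ⬝ᵥ (k' • w) = 0 := by simp [dotProduct_smul, hw.dot]
    have hd' : b ⬝ᵥ -(k' • w) = 0 := by simp [hd]
    have e1 : mat (tv (k' • w) b) *ᵥ y = y := by
      rw [mat, tv_mulVec hd, hyb.dot, zero_smul, add_zero]
    have e2 : a ᵥ* mat (tv (k' • w) b)⁻¹ = a + (-(k' * (a ⬝ᵥ w))) • b := by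
      rw [mat, tv_inv, vecMul_tv hd']
      simp [dotProduct_smul]
    have hα' := (mem_scal_conj hg (h := hya.dot) (s := α)
      (h' := by rw [e1, e2]; simp [add_dotProduct, hya.dot, hyb.dot])).2 hα
    rw [mem_scal, e1, e2, ← tv_smul_right] at hα'
    obtain ⟨s, hs, t, ht, hst⟩ := axes_sum hu hA hya hyb hab
      (by simp [smul_dotProduct, add_dotProduct, hya.dot, hyb.dot]) hα'
    obtain ⟨-, h2⟩ := hab (s - α) (t + α * (k' * (a ⬝ᵥ w))) (by
      rw [sub_smul, add_smul, mul_smul, show s • a - α • a + (t • b + α • (k' * (a ⬝ᵥ w)) • b) =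
        (s • a + t • b) - α • (a + (-(k' * (a ⬝ᵥ w))) • b) by
          rw [smul_add, neg_smul, smul_neg]; abel, ← hst, sub_self])
    rw [eq_neg_of_add_eq_zero_right h2]
    exact (scal M y b hyb.dot).neg_mem ht
  obtain ⟨α, hα, hα0⟩ := hya.scal_ne_bot
  have h2 := step (v := v) (a := b) (w := v) (b := a) hv hyb hya (indep_symm hab) k hk _
    (step (v := v) hw hya hyb hab k' hk' α hα)
  have hF3 : (3 : F) = 0 := by exact_mod_cast CharP.cast_eq_zero F 3
  have hαne : α ≠ -α := fun e => hα0 (by linear_combination (α : F) * hF3 - e)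
  have hK : ∀ β ∈ scal M y a hya.dot, β = 0 ∨ β = α ∨ β = -α := by
    intro β hβ
    by_contra! hn
    have hsub : ({0, α, -α, β} : Finset F) ⊆ (scal M y a hya.dot : Set F).toFinset := by
      intro r hr
      simp only [Finset.mem_insert, Finset.mem_singleton] at hr
      simp only [Set.mem_toFinset, SetLike.mem_coe]
      rcases hr with rfl | rfl | rfl | rfl
      exacts [zero_mem _, hα, neg_mem hα, hβ]
    have := Finset.card_le_card hsub
    rw [Finset.card_insert_of_notMem (by simp [Ne.symm hα0, Ne.symm hn.1, hα0]),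
      Finset.card_insert_of_notMem (by simp [hαne, Ne.symm hn.2.1]),
      Finset.card_insert_of_notMem (by simp [Ne.symm hn.2.2]), Finset.card_singleton,
      Set.toFinset_card, Fintype.card_eq_nat_card] at this
    have h' : Nat.card (scal M y a hya.dot : Set F) = 3 := (hu.card _ _ hya).trans hq3
    omega
  have hsq := hm k hk k' hk' hk0 hk'0
  have hα2 : α * (k' * (a ⬝ᵥ w)) * (k * (b ⬝ᵥ v)) = α * (k * k' * (a ⬝ᵥ w) * (b ⬝ᵥ v)) := by ring
  rw [hα2] at h2
  have hne : k * k' * (a ⬝ᵥ w) * (b ⬝ᵥ v) ≠ 0 :=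
    mul_ne_zero (mul_ne_zero (mul_ne_zero hk0 hk'0) haw) hbv
  have h1 : (k * k' * (a ⬝ᵥ w) * (b ⬝ᵥ v)) ^ 2 = 1 := by
    rcases hK _ h2 with h | h | h
    · exact absurd h (mul_ne_zero hα0 hne)
    · rw [mul_left_cancel₀ hα0 (h.trans (mul_one α).symm), one_pow]
    · rw [mul_left_cancel₀ hα0 (h.trans (mul_neg_one α).symm), neg_one_sq]
  exact one_ne_zero (show (1 : F) = 0 by linear_combination (hF3 : (3 : F) = 0) - (h1.symm.trans hsq))

end CfsgLib.PGLThree
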