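import Cfsg.Agent.PGLThree.Double.Coord
import Cfsg.Agent.PGLThree.Double.Many

/-!
# A rich flag in characteristic two

If an axis has two centres and no centre on it has a second axis, the transvections of every such
axis form a curve `s Y + s² P`, and every other such axis passes through `Y` or `P`; this is absurd
for three concurrent axes.
-/

set_option autoImplicit false
set_option linter.unusedSectionVars false

namespace CfsgLib.PGLThree

open Matrix Cfsg.Geo CfsgLib.MaxSub CfsgLib.SLThree CfsgLib.DicksonPSL2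
open CfsgLib.Aschbacher (mat)

variable {F : Type*} [Field F] {M : Subgroup (GL (Fin 3) F)} {v a b e z y : Fin 3 → F}

/-- A flag `(v, a)` whose axis has a second centre and whose centre has a second axis. -/
def Rich (M : Subgroup (GL (Fin 3) F)) : Prop :=
  ∃ v a w b, Flag M v a ∧ Flag M w a ∧ Indep v w ∧ Flag M v b ∧ Indep a b

theorem Rich.of_dual (h : Rich (SLThree.dual M)) : Rich M := by
  obtain ⟨a, v, b, w, h1, h2, hi, h3, hj⟩ := h
  exact ⟨v, a, w, b, flag_dual_iff.1 h1, flag_dual_iff.1 h3, hj, flag_dual_iff.1 h2, hi⟩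

/-- On an axis with two centres no centre has a second axis. -/
theorem not_flag_of_not_rich (hn : ¬ Rich M) (ha : AxisDouble M a) (hz : Flag M z e) (hy : y ≠ 0)
    (hay : a ⬝ᵥ y = 0) (hey : e ⬝ᵥ y = 0) (hab : Indep a e) (d : Fin 3 → F) : ¬ Flag M y d := by
  intro hyd
  obtain ⟨v, w, hv, hw, hi⟩ := ha
  have hya : Flag M y a := hv.spread hyd hay
  obtain ⟨x, hx, hxy⟩ := AxisDouble.exists_other ⟨v, w, hv, hw, hi⟩ hy
  exact hn ⟨y, a, x, e, hya, hx, hxy, hya.spread' hz hey, hab⟩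

theorem blk_up_eq_tv (α φ : F) :
    eblk (upSL α) ![0, φ] = tv ![φ, α, 0] (![0, 0, 1] : Fin 3 → F) := by
  apply Units.ext
  rw [blk_coe, tv_coe (by simp [dotProduct, Fin.sum_univ_three]), coe_upSL]
  ext i j
  fin_cases i <;> fin_cases j <;> simp [vecMulVec]

theorem blk_lo_eq_tv (k : F) :
    eblk (loSL k) 0 = tv ![0, 0, k] (![0, 1, 0] : Fin 3 → F) := by
  apply Units.ext
  rw [blk_coe, tv_coe (by simp [dotProduct, Fin.sum_univ_three]), coe_loSL]
  ext i j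
  fin_cases i <;> fin_cases j <;> simp [vecMulVec]

theorem blk_one_eq_tv (c : Fin 2 → F) :
    eblk 1 c = tv (![1, 0, 0] : Fin 3 → F) ![0, c 0, c 1] := by
  apply Units.ext
  rw [blk_coe, tv_coe (by simp [dotProduct, Fin.sum_univ_three])]
  ext i j
  fin_cases i <;> fin_cases j <;> simp [vecMulVec]

variable [Fintype F] [CharP F 2]

/-- **The transvections of an axis over a point without transvections.** -/
theorem param (hn : ¬ Rich M) (ha : AxisDouble M a) (hz : Flag M z e) (haz : a ⬝ᵥ z ≠ 0)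
    (hab : Indep a e) :
    ∃ (E : Subfield F) (Y P : Fin 3 → F), 3 ≤ Nat.card E ∧
      Nat.card E = Nat.card (axisGroup M a) ∧ Indep Y P ∧ a ⬝ᵥ Y = 0 ∧ a ⬝ᵥ P = 0 ∧ e ⬝ᵥ Y = 0 ∧
      ∀ u, u ∈ axisGroup M a ↔ ∃ s ∈ E, u = s • Y + s ^ 2 • P := by
  classical
  obtain ⟨v, w, hv, hw, hvw⟩ := ha
  set y := crossProduct a e with hydef
  have hy : y ≠ 0 := hab.cross_ne_zero
  have hay : a ⬝ᵥ y = 0 := dot_self_cross a e
  have hey : e ⬝ᵥ y = 0 := dot_cross_self a e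
  have hno := not_flag_of_not_rich hn ⟨v, w, hv, hw, hvw⟩ hz hy hay hey hab
  have hinj : ∀ u ∈ axisGroup M a, e ⬝ᵥ u = 0 → u = 0 := by
    intro u hu he
    by_contra h0
    obtain ⟨c, hc⟩ := exists_smul_of_dot hab hy hay hey hu.1 he
    have hc0 : c ≠ 0 := fun h => h0 (by rw [← hc, h, zero_smul])
    have hf := (flag_of_mem_axisGroup hv.axis_ne hu h0).smul_centre (inv_ne_zero hc0)
    rw [← hc, inv_smul_smul₀ hc0] at hf
    exact hno a hf
  obtain ⟨k₁, hk₁, hk₁0⟩ := hv.scal_ne_bot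
  obtain ⟨k₂, hk₂, hk₂0⟩ := hw.scal_ne_bot
  set v₀ := k₁ • v with hv₀def
  have hv₀m : v₀ ∈ axisGroup M a := smul_mem_axisGroup hk₁
  have hv₀0 : v₀ ≠ 0 := smul_ne_zero hk₁0 hv.centre_ne
  have hev₀ : e ⬝ᵥ v₀ ≠ 0 := fun h => hv₀0 (hinj _ hv₀m h)
  -- the change of basis
  let T : Matrix (Fin 3) (Fin 3) F := Matrix.of fun i j => ![y, v₀, z] j i
  have hTx : ∀ x : Fin 3 → F, T *ᵥ x = x 0 • y + x 1 • v₀ + x 2 • z := fun x => by
    ext i
    simp [T, Matrix.mulVec, dotProduct, Fin.sum_univ_three]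
    ring
  have hTdet : T.det ≠ 0 := fun h => by
    obtain ⟨x, hx0, hx⟩ := Matrix.exists_mulVec_eq_zero_iff.2 h
    rw [hTx] at hx
    have e2 := congrArg (a ⬝ᵥ ·) hx
    simp [dotProduct_add, dotProduct_smul, hay, hv₀m.1, haz] at e2
    have e1 := congrArg (e ⬝ᵥ ·) hx
    simp [dotProduct_add, dotProduct_smul, hey, hz.dot, hev₀] at e1
    simp [e1, e2, smul_eq_zero, hy] at hx
    exact hx0 (funext fun i => by fin_cases i <;> simp [hx, e1, e2])
  let t : GL (Fin 3) F := GeneralLinearGroup.mkOfDetNeZero T hTdet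
  have ht : (t : Matrix (Fin 3) (Fin 3) F) = T := rfl
  have hrow : ∀ (r : Fin 3 → F) (δ : Fin 3 → F) (c : F), c ≠ 0 → r ᵥ* T = c • δ →
      δ ᵥ* ((t⁻¹ : GL (Fin 3) F) : Matrix (Fin 3) (Fin 3) F) = c⁻¹ • r := by
    intro r δ c hc h
    rw [← ht] at h
    have h' := congrArg (· ᵥ* ((t⁻¹ : GL (Fin 3) F) : Matrix (Fin 3) (Fin 3) F)) h
    simp only [vecMul_vecMul, Units.mul_inv, vecMul_one, smul_vecMul] at h'
    rw [h', inv_smul_smul₀ hc]
  have haT : (![0, 0, 1] : Fin 3 → F) ᵥ* ((t⁻¹ : GL (Fin 3) F) : Matrix (Fin 3) (Fin 3) F) =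
      (a ⬝ᵥ z)⁻¹ • a := by
    refine hrow a _ _ haz ?_
    ext j
    show a ⬝ᵥ (![y, v₀, z] j) = _
    fin_cases j <;> simp [hay, hv₀m.1]
  have heT : (![0, 1, 0] : Fin 3 → F) ᵥ* ((t⁻¹ : GL (Fin 3) F) : Matrix (Fin 3) (Fin 3) F) =
      (e ⬝ᵥ v₀)⁻¹ • e := by
    refine hrow e _ _ hev₀ ?_
    ext j
    show e ⬝ᵥ (![y, v₀, z] j) = _
    fin_cases j <;> simp [hey, hz.dot]
  set Q := M.comap (MulAut.conj t).toMonoidHom with hQdef
  have hQ : ∀ g, g ∈ Q ↔ t * g * t⁻¹ ∈ M := fun g => Iff.rfl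
  have hkey : ∀ α φ, eblk (upSL α) ![0, φ] ∈ Q ↔
      (a ⬝ᵥ z)⁻¹ • (φ • y + α • v₀) ∈ axisGroup M a := by
    intro α φ
    rw [hQ, blk_up_eq_tv, conj_tv, haT, ht, hTx, tv_smul_right, mem_axisGroup]
    simp [dotProduct_add, dotProduct_smul, hay, hv₀m.1]
  have noY : ∀ c, eblk 1 c ∈ Q → c = 0 := by
    intro c hc
    rw [hQ, blk_one_eq_tv, conj_tv, ht, hTx] at hc
    simp only [Matrix.cons_val_zero, Matrix.cons_val_one, Matrix.cons_val, one_smul, zero_smul,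
      add_zero] at hc
    set d := (![0, c 0, c 1] : Fin 3 → F) ᵥ* ((t⁻¹ : GL (Fin 3) F) : Matrix (Fin 3) (Fin 3) F)
      with hd
    by_contra hc0
    have hd0 : d ≠ 0 := fun h => by
      have := congrArg (· ᵥ* (t : Matrix (Fin 3) (Fin 3) F)) h
      simp [hd, vecMul_vecMul] at this
      exact hc0 (funext fun i => by fin_cases i <;> simp [this])
    have hdy : d ⬝ᵥ y = 0 := by
      have := dot_conj t (![0, c 0, c 1] : Fin 3 → F) ![1, 0, 0]
      rw [ht, hTx] at this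
      simpa [hd, dotProduct, Fin.sum_univ_three] using this
    exact hno d (flag_of_tv hdy hy hd0 hc)
  have low : ∃ k, k ≠ 0 ∧ eblk (loSL k) 0 ∈ Q := by
    obtain ⟨k, hk, hk0⟩ := hz.scal_ne_bot
    refine ⟨k * (e ⬝ᵥ v₀), mul_ne_zero hk0 hev₀, ?_⟩
    rw [hQ, blk_lo_eq_tv, conj_tv, heT, ht, hTx, tv_smul_right]
    simpa [smul_smul, mul_comm, hev₀] using mem_scal.1 hk
  -- members of the axis group in coordinates
  have hyv : Indep y v₀ := indep_of_dot (a := y) (b := v₀) (x := e)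
    (by rwa [dotProduct_comm]) (by rwa [dotProduct_comm]) hy
  have hcoord : ∀ u ∈ axisGroup M a, ∃ φ α,
      eblk (upSL α) ![0, φ] ∈ Q ∧ α * (e ⬝ᵥ v₀) = (a ⬝ᵥ z) * (e ⬝ᵥ u) ∧
        u = (a ⬝ᵥ z)⁻¹ • (φ • y + α • v₀) := by
    intro u hu
    obtain ⟨φ, α, h⟩ := exists_combination (x := (a ⬝ᵥ z) • u) hyv hv.axis_ne
      (by rwa [dotProduct_comm]) (by rw [dotProduct_comm]; exact hv₀m.1)
      (by rw [smul_dotProduct, dotProduct_comm u a, hu.1, smul_zero])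
    refine ⟨φ, α, (hkey α φ).2 (by rwa [h, inv_smul_smul₀ haz]), ?_, by rw [h, inv_smul_smul₀ haz]⟩
    have := congrArg (e ⬝ᵥ ·) h
    simpa [dotProduct_add, dotProduct_smul, hey] using this
  have hu₂ : k₂ • w ∈ axisGroup M a := smul_mem_axisGroup hk₂
  obtain ⟨φ₁, α₁, hm₁, hα₁, -⟩ := hcoord _ hv₀m
  obtain ⟨φ₂, α₂, hm₂, hα₂, -⟩ := hcoord _ hu₂
  have hev₂ : e ⬝ᵥ (k₂ • w) ≠ 0 := fun h => smul_ne_zero hk₂0 hw.centre_ne (hinj _ hu₂ h)
  obtain ⟨E, c₀, C, D, hc₀, hE, hmem⟩ := coord noY low (α₁ := α₁) (α₂ := α₂)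
    (fun h => mul_ne_zero haz hev₀ (by rw [← hα₁, h, zero_mul]))
    (fun h => mul_ne_zero haz hev₂ (by rw [← hα₂, h, zero_mul]))
    (fun h => by
      have h' := mul_left_cancel₀ haz (hα₁.symm.trans ((h ▸ hα₂ :) :))
      have := hinj _ ((axisGroup M a).sub_mem hv₀m hu₂) (by rw [dotProduct_sub, h', sub_self])
      have := (hvw k₁ (-k₂) (by rw [neg_smul, ← sub_eq_add_neg]; exact this)).1
      exact hk₁0 this)
    hm₁ hm₂
  set Y := ((a ⬝ᵥ z)⁻¹ * C) • y with hY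
  set P := (a ⬝ᵥ z)⁻¹ • (D • y + c₀ • v₀) with hP
  have hiff : ∀ u, u ∈ axisGroup M a ↔ ∃ s ∈ E, u = s • Y + s ^ 2 • P := by
    intro u
    constructor
    · intro hu
      obtain ⟨φ, α, h, -, hu'⟩ := hcoord u hu
      obtain ⟨s, hs, hα, hφ⟩ := (hmem α φ).1 h
      refine ⟨s, hs, ?_⟩
      rw [hu', hα, hφ, hY, hP]
      module
    · rintro ⟨s, hs, rfl⟩
      have := (hkey _ _).1 ((hmem _ _).2 ⟨s, hs, rfl, rfl⟩)
      convert this using 1
      rw [hY, hP]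
      module
  have heY : e ⬝ᵥ Y = 0 := by simp [hY, dotProduct_smul, hey]
  have heP : e ⬝ᵥ P ≠ 0 := by simp [hP, dotProduct_smul, dotProduct_add, hey, haz, hc₀, hev₀]
  have hC : C ≠ 0 := fun h => by
    obtain ⟨s₁, -, h₁⟩ := (hiff _).1 hv₀m
    obtain ⟨s₂, -, h₂⟩ := (hiff _).1 hu₂
    rw [hY, h, mul_zero, zero_smul, smul_zero, zero_add] at h₁ h₂
    obtain ⟨h3, -⟩ := hvw (s₂ ^ 2 * k₁) (-(s₁ ^ 2 * k₂)) (by
      rw [neg_smul, mul_smul, mul_smul, ← hv₀def, h₁, h₂]; module)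
    have hs₂ : s₂ = 0 := by simpa [hk₁0] using h3
    rw [hs₂] at h₂
    exact smul_ne_zero hk₂0 hw.centre_ne (by rw [h₂]; simp)
  refine ⟨E, Y, P, hE, ?_, ?_, ?_, ?_, heY, hiff⟩
  · refine Nat.card_eq_of_bijective
      (fun s : E => (⟨(s : F) • Y + (s : F) ^ 2 • P, (hiff _).2 ⟨s, s.2, rfl⟩⟩ : axisGroup M a))
      ⟨fun s s' h => ?_, fun ⟨u, hu⟩ => ?_⟩
    · have := congrArg (fun u : axisGroup M a => e ⬝ᵥ (u : Fin 3 → F)) h
      simp [dotProduct_add, dotProduct_smul, heY, heP] at this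
      exact Subtype.ext (CharTwo.sq_injective this)
    · obtain ⟨s, hs, rfl⟩ := (hiff u).1 hu
      exact ⟨⟨s, hs⟩, rfl⟩
  · exact indep_of_dot (x := e) (by rwa [dotProduct_comm]) (by rwa [dotProduct_comm])
      (smul_ne_zero (mul_ne_zero (inv_ne_zero haz) hC) hy)
  · simp [hY, dotProduct_smul, hay]
  · simp [hP, dotProduct_smul, dotProduct_add, hay, hv₀m.1]

/-- Every other axis with two centres passes through one of two points of the axis. -/
theorem two_points (hirr : Irreducible M) (hn : ¬ Rich M) (ha : AxisDouble M a) :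
    ∃ Y P : Fin 3 → F, Indep Y P ∧ a ⬝ᵥ Y = 0 ∧ a ⬝ᵥ P = 0 ∧
      ∀ b, AxisDouble M b → Indep a b → b ⬝ᵥ Y = 0 ∨ b ⬝ᵥ P = 0 := by
  classical
  obtain ⟨v, w, hv, hw, hvw⟩ := id ha
  obtain ⟨z, e, hze, haz, hev⟩ := exists_opposite hirr (fun z e => Flag M z e) (fun _ _ h => h)
    (fun g hg _ _ h => h.conj hg) ⟨v, a, hv⟩ hv.centre_ne hv.axis_ne hv.dot
  obtain ⟨E, Y, P, hE3, hE, hYP, haY, haP, -, hiff⟩ :=
    param hn ha hze haz (indep_of_dot hv.dot hev hv.axis_ne)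
  refine ⟨Y, P, hYP, haY, haP, fun b hb hab => ?_⟩
  obtain ⟨x, hx, hax⟩ : ∃ x, Flag M x b ∧ a ⬝ᵥ x ≠ 0 := by
    obtain ⟨x₁, x₂, h₁, h₂, hi⟩ := hb
    by_contra! h
    obtain ⟨c, hc⟩ := exists_smul_of_dot hab h₁.centre_ne (h _ h₁) h₁.dot (h _ h₂) h₂.dot
    have := (hi c (-1) (by rw [hc]; simp)).2
    simp at this
  obtain ⟨E', Y', P', -, hE', hYP', haY', haP', hbY', hiff'⟩ := param hn ha hx hax hab
  have hbP' : b ⬝ᵥ P' ≠ 0 := fun h => by
    obtain ⟨c, hc⟩ := exists_smul_of_dot hab hYP'.left haY' hbY' haP' h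
    have := (hYP' c (-1) (by rw [hc]; simp)).2
    simp at this
  have hEE : ∀ r ∈ E', r ∈ E := fun r hr =>
    mem_of_pow_eq_self rfl hE3 (pow_eq_self_of_mem (hE'.trans hE.symm) hr)
  set A := (b ⬝ᵥ Y) / (b ⬝ᵥ P') with hA
  set B := (b ⬝ᵥ P) / (b ⬝ᵥ P') with hB
  have hsum : ∀ s ∈ E, A * s + B * s ^ 2 ∈ E := by
    intro s hs
    obtain ⟨s', hs', h⟩ := (hiff' _).1 ((hiff _).2 ⟨s, hs, rfl⟩)
    have h' := congrArg (b ⬝ᵥ ·) h
    simp [dotProduct_add, dotProduct_smul, hbY'] at h'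
    convert hEE _ (pow_mem hs' 2) using 1
    rw [hA, hB]
    field_simp
    linear_combination h'
  obtain ⟨q, hq, hq0, hq1⟩ : ∃ q ∈ E, q ≠ 0 ∧ q ≠ 1 := by
    by_contra! h
    have : Nat.card E ≤ 2 := by
      refine le_trans (Nat.card_le_card_of_injective (fun q : E => decide ((q : F) = 0)) ?_) (by simp)
      intro r r' hrr
      simp only [decide_eq_decide] at hrr
      apply Subtype.ext
      by_cases hr : (r : F) = 0
      · rw [hr, hrr.1 hr]
      · rw [h r r.2 hr, h r' r'.2 fun hr' => hr (hrr.2 hr')]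
    omega
  have hden : q ^ 2 + q ≠ 0 := by
    rw [pow_two, ← mul_add_one]
    exact mul_ne_zero hq0 fun h => hq1 (CharTwo.add_eq_zero.1 h)
  have h1 := hsum 1 E.one_mem
  rw [mul_one, one_pow, mul_one] at h1
  have hBE : B ∈ E := by
    have h2 := E.add_mem (E.mul_mem hq h1) (hsum q hq)
    have h3 := E.mul_mem h2 (E.inv_mem (E.add_mem (E.mul_mem hq hq) hq))
    convert h3 using 1
    rw [← pow_two, ← div_eq_mul_inv, eq_div_iff hden]
    linear_combination (-(A * q)) * CharTwo.two_eq_zero (R := F)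
  have hAE : A ∈ E := by simpa using E.sub_mem h1 hBE
  by_contra! hcon
  have hA0 : A ≠ 0 := div_ne_zero hcon.1 hbP'
  have hB0 : B ≠ 0 := div_ne_zero hcon.2 hbP'
  have hs : A / B ∈ E := E.div_mem hAE hBE
  obtain ⟨s', -, h⟩ := (hiff' _).1 ((hiff _).2 ⟨_, hs, rfl⟩)
  have h' := congrArg (b ⬝ᵥ ·) h
  simp [dotProduct_add, dotProduct_smul, hbY'] at h'
  have hz : A / B * (b ⬝ᵥ Y) + (A / B) ^ 2 * (b ⬝ᵥ P) = 0 := by
    rw [show (b ⬝ᵥ Y) = A * (b ⬝ᵥ P') by rw [hA, div_mul_cancel₀ _ hbP'],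
      show (b ⬝ᵥ P) = B * (b ⬝ᵥ P') by rw [hB, div_mul_cancel₀ _ hbP']]
    field_simp
    linear_combination (b ⬝ᵥ P') * A ^ 2 * CharTwo.two_eq_zero (R := F)
  rw [hz, eq_comm, mul_eq_zero, or_iff_left hbP'] at h'
  rw [pow_eq_zero_iff two_ne_zero] at h'
  rw [h'] at h
  have := (hYP (A / B) ((A / B) ^ 2) (by rw [h]; simp)).1
  exact div_ne_zero hA0 hB0 this

/-- An axis with two centres gives a rich flag. -/
theorem rich_of_axisDouble (hirr : Irreducible M) (ha : AxisDouble M a) : Rich M := by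
  by_contra hn
  obtain ⟨v, w, hv, hw, hvw⟩ := id ha
  obtain ⟨z, e, ⟨hze, hed⟩, haz, hev⟩ := exists_opposite hirr
    (fun z e => Flag M z e ∧ AxisDouble M e) (fun _ _ h => h.1)
    (fun g hg _ _ h => ⟨h.1.conj hg, h.2.conj hg⟩) ⟨v, a, hv, ha⟩
    hv.centre_ne hv.axis_ne hv.dot
  obtain ⟨k, hk, hk0⟩ := hze.scal_ne_bot
  have hae : Indep a e := indep_of_dot hv.dot hev hv.axis_ne
  set y := crossProduct a e with hydef
  have hy : y ≠ 0 := hae.cross_ne_zero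
  have hay : a ⬝ᵥ y = 0 := dot_self_cross a e
  have hey : e ⬝ᵥ y = 0 := dot_cross_self a e
  set a' := a + (-(k * (a ⬝ᵥ z))) • e with ha'def
  have ha' : AxisDouble M a' := by
    have hd : e ⬝ᵥ (k • z) = 0 := by simp [dotProduct_smul, hze.dot]
    have := ha.conj (g := tv (k • z) e) hk
    rw [mat, tv_inv, vecMul_tv (by simp [hd])] at this
    convert this using 1
    simp [ha'def, dotProduct_smul]
  have ha'y : a' ⬝ᵥ y = 0 := by simp [ha'def, add_dotProduct, smul_dotProduct, hay, hey]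
  have haa' : Indep a a' := indep_of_dot hv.dot (by
    simp [ha'def, add_dotProduct, smul_dotProduct, hv.dot, hk0, haz, hev]) hv.axis_ne
  have hea' : Indep e a' := indep_of_dot hze.dot (by
    simp [ha'def, add_dotProduct, smul_dotProduct, hze.dot, haz]) hze.axis_ne
  obtain ⟨g, hg, hby⟩ := exists_conj_axis hirr hv.axis_ne hy
  set b := a ᵥ* mat g⁻¹
  have hb : AxisDouble M b := ha.conj hg
  obtain ⟨Y, P, hYP, hbY, hbP, hthrough⟩ := two_points hirr hn hb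
  have hab : ∀ {c}, c ≠ 0 → c ⬝ᵥ y = 0 → Indep b c := fun hc0 hc =>
    indep_symm (indep_of_dot hc hby hc0)
  have share : ∀ {c d Z : Fin 3 → F}, Indep c d → c ⬝ᵥ y = 0 → d ⬝ᵥ y = 0 → Z ≠ 0 →
      b ⬝ᵥ Z = 0 → c ⬝ᵥ Z = 0 → d ⬝ᵥ Z = 0 → False := by
    intro c d Z hcd hc hd hZ hbZ hcZ hdZ
    obtain ⟨m, rfl⟩ := exists_smul_of_dot hcd hy hc hd hcZ hdZ
    rw [dotProduct_smul, smul_eq_mul, mul_eq_zero, or_iff_left hby] at hbZ
    exact hZ (by rw [hbZ, zero_smul])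
  rcases hthrough a ha (hab hv.axis_ne hay) with h1 | h1 <;>
    rcases hthrough e hed (hab hze.axis_ne hey) with h2 | h2 <;>
    rcases hthrough a' ha' (hab haa'.right ha'y) with h3 | h3
  all_goals first
    | exact share hae hay hey hYP.left hbY h1 h2
    | exact share hae hay hey hYP.right hbP h1 h2
    | exact share haa' hay ha'y hYP.left hbY h1 h3
    | exact share haa' hay ha'y hYP.right hbP h1 h3
    | exact share hea' hey ha'y hYP.left hbY h2 h3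
    | exact share hea' hey ha'y hYP.right hbP h2 h3

/-- A double configuration in characteristic two gives a rich flag. -/
theorem rich_of_double (hirr : Irreducible M) (hd : Double M) : Rich M := by
  rcases hd.axisDouble with ⟨a₀, h₀⟩ | ⟨v₀, h₀⟩
  · exact rich_of_axisDouble hirr h₀
  · exact (rich_of_axisDouble (irreducible_dual hirr) h₀).of_dual

end CfsgLib.PGLThree
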